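import Cfsg.Agent.Lib.Solvable.GrossLength.Exceptional
import Cfsg.Agent.Lib.Solvable.GrossTwo.ClassTwo

/-!
A class two group normalised by an element of norm zero in characteristic two, modulo the radical of
a central weight.
-/

set_option autoImplicit false

namespace Cfsg.Agent.Lib.Solvable.GrossLength

open Module Cfsg.Agent.Lib Cfsg.Agent.Lib.Solvable.GrossTwo
open scoped commutatorElement

variable {k : Type*} [Field k] [IsAlgClosed k] {W : Type*} [AddCommGroup W] [Module k W]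
  [FiniteDimensional k W] {Q : Type*} [Group Q] [Finite Q]

/-- An orbit sum of vectors of distinct weights does not vanish. -/
theorem orbit_sum_ne {Z : Type*} [Group Z] (f : Z → End k W) (T : End k W) (θ : MulAut Z)
    (hf : ∀ y, T * f y = f (θ y) * T) (χ : Z → k) (w : W) (hw0 : w ≠ 0)
    (hw : ∀ y, f y w = χ y • w) (N : ℕ) (hN : 0 < N)
    (hdist : ∀ i, (∀ y, χ ((θ ^ i) y) = χ y) → N ∣ i) :
    ∑ i ∈ Finset.range N, (T ^ i) w ≠ 0 := by
  classical
  have hpow : ∀ i y, T ^ i * f y = f ((θ ^ i) y) * T ^ i := by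
    intro i
    induction i with
    | zero => intro y; simp
    | succ i ih =>
      intro y
      rw [pow_succ T, pow_succ θ, mul_assoc, hf, ← mul_assoc, ih, MulAut.mul_apply, mul_assoc]
  have hwt : ∀ i z, f z ((T ^ i) w) = χ (((θ ^ i)⁻¹) z) • (T ^ i) w := by
    intro i z
    have h1 := congrArg (fun e : End k W => e w) (hpow i ((θ ^ i)⁻¹ z))
    simp only [End.mul_apply, hw, map_smul, MulAut.apply_inv_self] at h1
    exact h1.symm
  intro h
  have hd : ∀ i ∈ Finset.range N, ∀ j ∈ Finset.range N,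
      (fun z => χ (((θ ^ i)⁻¹) z)) = (fun z => χ (((θ ^ j)⁻¹) z)) → i = j := by
    have key : ∀ i j, i ≤ j → j < N →
        (fun z => χ (((θ ^ i)⁻¹) z)) = (fun z => χ (((θ ^ j)⁻¹) z)) → i = j := by
      intro i j hle hj hij
      obtain ⟨c, hc⟩ := hdist (j - i) fun y => by
        have := congrFun hij ((θ ^ j) y)
        simp only [MulAut.inv_apply_self] at this
        rw [← this, ← Nat.add_sub_cancel' hle, pow_add, MulAut.mul_apply, MulAut.inv_apply_self,
          Nat.add_sub_cancel_left]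
      rcases Nat.eq_zero_or_pos c with rfl | hc0
      · omega
      · have := Nat.le_mul_of_pos_right N hc0
        omega
    intro i hi j hj hij
    rw [Finset.mem_range] at hi hj
    rcases le_total i j with h' | h'
    · exact key i j h' hj hij
    · exact (key j i h' hi hij.symm).symm
  have h0 := Solvable.FPF.eq_zero_of_sum_eq_zero f (Finset.range N) (fun i => (T ^ i) w)
    (fun i z => χ (((θ ^ i)⁻¹) z)) (fun i _ z => hwt i z) hd h 0 (Finset.mem_range.mpr hN)
  exact hw0 (by simpa using h0)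

omit [IsAlgClosed k] [FiniteDimensional k W] in
/-- Splitting a norm along a subgroup. -/
theorem sum_pow_range_mul (T : End k W) (N M : ℕ) (w : W) :
    ∑ i ∈ Finset.range (N * M), (T ^ i) w =
      ∑ l ∈ Finset.range N, (T ^ l) (∑ i ∈ Finset.range M, (T ^ (N * i)) w) := by
  induction M with
  | zero => simp
  | succ M ih =>
    rw [Nat.mul_succ, Finset.sum_range_add, ih]
    simp only [Finset.sum_range_succ, map_add, Finset.sum_add_distrib]
    congr 1
    refine Finset.sum_congr rfl fun l _ => ?_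
    rw [← End.mul_apply, ← pow_add, add_comm l]

set_option maxHeartbeats 1000000 in
/-- The structure modulo the radical of a central weight. -/
theorem class_two_weight [CharP k 2] {n : ℕ} (hn : 0 < n) {q : ℕ} (hq : q.Prime)
    (hq2 : q ≠ 2) (hqk : (q : k) ≠ 0) (hQ : IsPGroup q Q) (E : Q →* End k W) (T : End k W)
    (hT : T ^ 2 ^ n = 1) (hTnorm : ∑ i ∈ Finset.range (2 ^ n), T ^ i = 0) (θ : MulAut Q)
    (hθ : θ ^ 2 ^ n = 1) (hTE : ∀ x, T * E x = E (θ x) * T)
    (hcomm : commutator Q ≤ Subgroup.center Q)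
    (hτZ : ∀ z ∈ Subgroup.center Q, (θ ^ 2 ^ (n - 1)) z = z)
    (χ : Subgroup.center Q → k) (w0 : W) (hw00 : w0 ≠ 0)
    (hw0 : ∀ z : Subgroup.center Q, E (z : Q) w0 = χ z • w0) :
    ∃ (R : Subgroup Q) (j m : ℕ),
      (∀ x, x ∈ R ↔ ∀ y, ∀ h : ⁅x, y⁆ ∈ Subgroup.center Q, χ ⟨⁅x, y⁆, h⟩ = 1) ∧
      R.Normal ∧ Subgroup.center Q ≤ R ∧
      (∀ (z : Subgroup.center Q) (h : (θ ^ 2 ^ j) (z : Q) ∈ Subgroup.center Q),
        χ ⟨(θ ^ 2 ^ j) (z : Q), h⟩ = χ z) ∧
      (∀ x ∈ R, (θ ^ 2 ^ j) x ∈ R) ∧ 1 ≤ m ∧ j + m = n ∧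
      ((∀ x, (θ ^ 2 ^ (n - 1)) x * x⁻¹ ∈ R) ∨
        (q + 1 = 2 ^ m ∧ 2 ≤ m ∧
          (∀ x, (θ ^ 2 ^ (n - 1)) x * x⁻¹ ∈ R → (θ ^ 2 ^ j) x * x⁻¹ ∈ R) ∧
          ∃ C1 : Subgroup Q, R ≤ C1 ∧ (∀ x, (θ ^ 2 ^ (n - 1)) x * x⁻¹ ∈ C1) ∧
            Nat.card C1 = Nat.card R * q ^ 2)) := by
  classical
  letI : Fintype Q := Fintype.ofFinite Q
  haveI := Fact.mk hq
  obtain ⟨cQ, hcQ⟩ := IsPGroup.iff_card.mp hQ
  have hQk : (Fintype.card Q : k) ≠ 0 := by
    rw [← Nat.card_eq_fintype_card, hcQ, Nat.cast_pow]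
    exact pow_ne_zero _ hqk
  have hodd : Odd (Nat.card Q) := hcQ ▸ (hq.odd_of_ne_two hq2).pow
  obtain ⟨half, hhalf⟩ := hodd
  have hroot : ∀ x : Q, (x ^ (half + 1)) ^ 2 = x := fun x => by
    rw [← pow_mul, show (half + 1) * 2 = (2 * half + 1) + 1 by ring, pow_succ, ← hhalf,
      pow_card_eq_one', one_mul]
  let Z : Subgroup Q := Subgroup.center Q
  let cm : Q → Q → Z := fun x y =>
    ⟨⁅x, y⁆, hcomm (Subgroup.commutator_mem_commutator (Subgroup.mem_top x) (Subgroup.mem_top y))⟩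
  have hθZ : ∀ (i : ℕ), ∀ z ∈ Z, (θ ^ i) z ∈ Z := fun i z hz =>
    Subgroup.mem_center_iff.mpr fun g => by
      have := congrArg (θ ^ i) (Subgroup.mem_center_iff.mp hz ((θ ^ i)⁻¹ g))
      simpa [MulAut.apply_inv_self] using this
  let θZ : MulAut Z := MulEquiv.ofBijective
    ({ toFun := fun z => ⟨θ z, by simpa using hθZ 1 z z.2⟩
       map_one' := Subtype.ext (map_one θ)
       map_mul' := fun a b => Subtype.ext (map_mul θ _ _) } : Z →* Z)
    (Finite.injective_iff_bijective.mp fun a b hab =>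
      Subtype.ext (θ.injective (congrArg Subtype.val hab)))
  have hθZv : ∀ (i : ℕ) (z : Z), (((θZ ^ i) z : Z) : Q) = (θ ^ i) z := by
    intro i
    induction i with
    | zero => exact fun z => rfl
    | succ i ih => intro z; rw [pow_succ, pow_succ, MulAut.mul_apply, MulAut.mul_apply, ih]; rfl
  set τ := θ ^ 2 ^ (n - 1) with hτ
  have hττ : τ * τ = 1 := by
    rw [hτ, ← pow_add, ← two_mul, ← pow_succ', Nat.sub_add_cancel hn, hθ]
  have hττ' : ∀ x, τ (τ x) = x := fun x => by rw [← MulAut.mul_apply, hττ, MulAut.one_apply]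
  -- the weight
  have hZk : (Nat.card Z : k) ≠ 0 := by
    obtain ⟨c, -, hc⟩ := (Nat.dvd_prime_pow hq).mp (hcQ ▸ Subgroup.card_subgroup_dvd_card Z)
    rw [hc, Nat.cast_pow]
    exact pow_ne_zero _ hqk
  have hχmul : ∀ y z, χ (y * z) = χ y * χ z := fun y z => by
    refine smul_left_injective k hw00 ?_
    show χ (y * z) • w0 = (χ y * χ z) • w0
    rw [← hw0, Subgroup.coe_mul, map_mul, End.mul_apply, hw0 z, map_smul, hw0 y, smul_smul, mul_comm]
  have hχone : χ 1 = 1 := smul_left_injective k hw00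
    (show χ 1 • w0 = (1 : k) • w0 by rw [← hw0, OneMemClass.coe_one, map_one, one_smul]; rfl)
  have hθZM : θZ ^ 2 ^ (n - 1) = 1 :=
    MulEquiv.ext fun z => Subtype.ext (by rw [hθZv]; exact hτZ z z.2)
  obtain ⟨N, hN, hNd, hNfix, hNmin⟩ := ShultGross.exists_period θZ χ (pow_pos two_pos _) hθZM
  obtain ⟨j, hj, rfl⟩ := (Nat.dvd_prime_pow Nat.prime_two).mp hNd
  -- the weight space
  let V : Submodule k W := ⨅ z : Z, End.eigenspace (E (z : Q)) (χ z)
  have hVmem : ∀ {w}, w ∈ V ↔ ∀ z : Z, E (z : Q) w = χ z • w := by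
    simp [V, Submodule.mem_iInf, End.mem_eigenspace_iff]
  have hVE : ∀ x, ∀ w ∈ V, E x w ∈ V := fun x w hw => hVmem.mpr fun z => by
    rw [← End.mul_apply, ← map_mul, ← Subgroup.mem_center_iff.mp z.2 x, map_mul, End.mul_apply,
      hVmem.mp hw z, map_smul]
  have hTpow : ∀ (i : ℕ) x, T ^ i * E x = E ((θ ^ i) x) * T ^ i := by
    intro i
    induction i with
    | zero => intro x; simp
    | succ i ih =>
      intro x
      rw [pow_succ T, pow_succ θ, mul_assoc, hTE, ← mul_assoc, ih, MulAut.mul_apply, mul_assoc]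
  set N := 2 ^ j with hNdef
  have hNfix' : ∀ a : ℕ, ∀ z : Z, χ ((θZ ^ (N * a)) z) = χ z := by
    intro a
    induction a with
    | zero => intro z; rfl
    | succ a ih => intro z; rw [Nat.mul_succ, pow_add, MulAut.mul_apply, ih, hNfix]
  have hVT : ∀ i : ℕ, ∀ w ∈ V, (T ^ (N * i)) w ∈ V := fun i w hw => hVmem.mpr fun z => by
    have h1 := congrArg (fun e : End k W => e w) (hTpow (N * i) (((θZ ^ (N * i))⁻¹ z : Z) : Q))
    simp only [End.mul_apply, hVmem.mp hw, map_smul, ← hθZv, MulAut.apply_inv_self] at h1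
    rw [← h1]
    congr 1
    rw [← hNfix' i ((θZ ^ (N * i))⁻¹ z), MulAut.apply_inv_self]
  have hno : ∀ w ∈ V, ∑ i ∈ Finset.range (2 ^ (n - j)), (T ^ (N * i)) w = 0 := by
    intro w hw
    by_contra hne
    have hmem : ∑ i ∈ Finset.range (2 ^ (n - j)), (T ^ (N * i)) w ∈ V :=
      V.sum_mem fun i _ => hVT i w hw
    refine orbit_sum_ne (fun z : Z => E (z : Q)) T θZ (fun z => by rw [hTE]; rfl) χ _ hne
      (hVmem.mp hmem) N hN hNmin ?_
    rw [← sum_pow_range_mul, hNdef, ← pow_add, Nat.add_sub_cancel' (by omega), ← LinearMap.sum_apply,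
      hTnorm, LinearMap.zero_apply]
  have hV0 : w0 ∈ V := hVmem.mpr hw0
  haveI : Nontrivial V := ⟨⟨⟨w0, hV0⟩, 0, fun e => hw00 (congrArg Subtype.val e)⟩⟩
  let t0 : End k V := (T ^ N).restrict fun w hw => by simpa using hVT 1 w hw
  let EV : Q →* End k V :=
    { toFun := fun x => (E x).restrict (hVE x)
      map_one' := LinearMap.ext fun w => Subtype.ext (by simp)
      map_mul' := fun x y => LinearMap.ext fun w => Subtype.ext (by simp) }
  have hβV : ∀ x y, EV x * EV y = χ (cm x y) • (EV y * EV x) := by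
    intro x y
    refine LinearMap.ext fun w => Subtype.ext ?_
    show E x (E y w) = χ (cm x y) • E y (E x w)
    rw [← hVmem.mp (hVE y _ (hVE x _ w.2)) (cm x y), ← End.mul_apply, ← End.mul_apply, ← End.mul_apply,
      ← map_mul, ← map_mul, ← map_mul]
    congr 2
    simp only [cm, commutatorElement_def, mul_assoc, inv_mul_cancel_left, inv_mul_cancel, mul_one]
  have ht0 : ∀ i, ∀ w : V, (((t0 ^ i) w : V) : W) = (T ^ (N * i)) w := by
    intro i
    induction i with
    | zero => intro w; simp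
    | succ i ih =>
      intro w
      rw [pow_succ, End.mul_apply, ih, Nat.mul_succ, pow_add, End.mul_apply]
      rfl
  have hjn : j < n := by omega
  set m := n - j with hm
  have hNn : N * 2 ^ m = 2 ^ n := by rw [hNdef, ← pow_add]; congr 1; omega
  set φ := θ ^ N with hφdef
  have hφτ : φ ^ 2 ^ (m - 1) = τ := by
    rw [hφdef, hτ, ← pow_mul, hNdef, ← pow_add]; congr 2; omega
  have ht0m : t0 ^ 2 ^ m = 1 := LinearMap.ext fun w => Subtype.ext (by rw [ht0, hNn, hT]; rfl)
  have hφm : φ ^ 2 ^ m = 1 := by rw [hφdef, ← pow_mul, hNn, hθ]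
  have ht0E : ∀ x, t0 * EV x = EV (φ x) * t0 := fun x => LinearMap.ext fun w => Subtype.ext (by
    show (T ^ N) (E x w) = E ((θ ^ N) x) ((T ^ N) w)
    rw [← End.mul_apply, hTpow]; rfl)
  have ht0norm : ∑ i ∈ Finset.range (2 ^ m), t0 ^ i = 0 := LinearMap.ext fun w => Subtype.ext (by
    rw [LinearMap.sum_apply, AddSubmonoidClass.coe_finsetSum]
    simp only [ht0]
    exact hno w w.2)
  let D0 : Data k V Q :=
    { E := EV, T := t0, φ := φ, m := 2 ^ m, β := fun x y => χ (cm x y)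
      hm := pow_pos two_pos m, hT := ht0m, hφ := hφm, hTE := ht0E, hβ := hβV }
  set R := D0.R with hRdef
  have hZR : Z ≤ R := fun z hz y => by
    show χ (cm z y) = 1
    rw [show cm z y = 1 from Subtype.ext
      (commutatorElement_eq_one_iff_mul_comm.mpr (Subgroup.mem_center_iff.mp hz y).symm)]
    exact hχone
  have hinv : ∀ g : MulAut Q, (∀ z ∈ Z, g z = z) → ∀ x ∈ R, g x ∈ R := by
    intro g hg x hx y
    show χ (cm (g x) y) = 1
    have hgs : g (g.symm y) = y := MulEquiv.apply_symm_apply g y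
    rw [show cm (g x) y = cm x (g.symm y) from Subtype.ext (by
      show ⁅g x, y⁆ = ⁅x, g.symm y⁆
      conv_lhs => rw [← hgs, ← map_commutatorElement]
      exact hg _ (cm x _).2)]
    exact hx _
  have hφR : ∀ x ∈ R, φ x ∈ R := by
    intro x hx y
    obtain ⟨y', rfl⟩ := φ.surjective y
    exact (D0.β_map x y').trans (hx y')
  refine ⟨R, j, m, fun x => ⟨fun h y _ => h y, fun h y => h y (cm x y).2⟩, Data.R_normal D0, hZR,
    fun z h => ?_, hφR, by omega, by omega, ?_⟩
  · have h1 := hNfix' 1 z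
    rw [mul_one] at h1
    refine Eq.trans (congrArg χ (Subtype.ext ?_)) h1
    rw [hθZv]
  have hτR : ∀ x ∈ R, τ x ∈ R := hinv τ hτZ
  -- elements inverted modulo the centre
  have hswapZ : ∀ u v : Q, ∃ z ∈ Z, u * v = z * (v * u) := fun u v =>
    ⟨⁅u, v⁆, (cm u v).2, by rw [commutatorElement_def]; group⟩
  let C1 : Subgroup Q :=
    { carrier := {x | τ x * x ∈ Z}
      one_mem' := by simp
      mul_mem' := fun {u v} hu hv => by
        simp only [Set.mem_ofPred_eq] at hu hv ⊢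
        obtain ⟨z, hz, hzv⟩ := hswapZ (τ v) u
        have : τ (u * v) * (u * v) = z * ((τ u * u) * (τ v * v)) := by
          rw [map_mul]
          calc τ u * τ v * (u * v) = τ u * (τ v * u) * v := by group
            _ = (τ u * z) * (u * τ v) * v := by rw [hzv]; group
            _ = _ := by rw [Subgroup.mem_center_iff.mp hz (τ u)]; group
        rw [this]
        exact mul_mem hz (mul_mem hu hv)
      inv_mem' := fun {u} hu => by
        simp only [Set.mem_ofPred_eq] at hu ⊢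
        obtain ⟨z, hz, hzv⟩ := hswapZ (τ u)⁻¹ u⁻¹
        rw [map_inv, hzv, ← mul_inv_rev]
        exact mul_mem hz (inv_mem hu) }
  have hC1 : ∀ x, x ∈ C1 ↔ τ x * x ∈ Z := fun x => Iff.rfl
  have hwC1 : ∀ x, τ x * x⁻¹ ∈ C1 := fun x => by
    rw [hC1, map_mul, map_inv, hττ']
    rw [show x * (τ x)⁻¹ * (τ x * x⁻¹) = 1 by group]
    exact one_mem _
  -- splitting
  have hsplit : ∀ x, ∃ v ∈ C1, τ (v * x) = v * x ∧ ∀ H : Subgroup Q, τ x * x⁻¹ ∈ H → v ∈ H := by
    intro x
    set w := τ x * x⁻¹ with hw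
    refine ⟨w ^ (half + 1), pow_mem (hwC1 x) _, ?_, fun H h => pow_mem h _⟩
    have hτw : τ w = w⁻¹ := by
      rw [hw, map_mul, map_inv, hττ', mul_inv_rev, inv_inv]
    have hτx : τ x = w * x := by rw [hw]; group
    rw [map_mul, map_pow, hτw, hτx, inv_pow]
    calc (w ^ (half + 1))⁻¹ * (w * x) = (w ^ (half + 1))⁻¹ * ((w ^ (half + 1)) ^ 2 * x) := by rw [hroot]
      _ = _ := by rw [sq]; group
  have hβone : ∀ u : Q, χ (cm u 1) = 1 := fun u => D0.β_one_right u
  have horth : ∀ u v, τ u = u → v ∈ C1 → χ (cm u v) = 1 := by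
    intro u v hu hv
    have h1 : χ (cm u (τ v)) = χ (cm u v) := by
      congr 1
      refine Subtype.ext ?_
      show ⁅u, τ v⁆ = ⁅u, v⁆
      conv_lhs => rw [← hu, ← map_commutatorElement]
      exact hτZ _ (cm u v).2
    have h2 : χ (cm u (τ v)) * χ (cm u v) = 1 := by
      have := D0.β_mul_right u (τ v) v
      change χ (cm u (τ v * v)) = χ (cm u (τ v)) * χ (cm u v) at this
      rw [← this]
      have h := D0.β_mul_swap u (τ v * v)
      change χ (cm u (τ v * v)) * χ (cm (τ v * v) u) = 1 at h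
      rwa [show χ (cm (τ v * v) u) = 1 from hZR hv u, mul_one] at h
    rw [h1, ← sq] at h2
    have h3 : χ (cm u v) ^ Nat.card Q = 1 := by
      have : ∀ i : ℕ, χ (cm u (v ^ i)) = χ (cm u v) ^ i := by
        intro i
        induction i with
        | zero => rw [pow_zero, pow_zero]; exact hβone u
        | succ i ih => rw [pow_succ, pow_succ, ← ih]; exact D0.β_mul_right u _ v
      rw [← this, pow_card_eq_one', hβone]
    rw [hhalf, pow_succ, pow_mul, h2, one_pow, one_mul] at h3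
    exact h3
  by_cases hC1R : ∀ x ∈ C1, x ∈ R
  · exact Or.inl fun x => hC1R _ (hwC1 x)
  refine Or.inr ?_
  push Not at hC1R
  obtain ⟨c₁, hc₁, hc₁R⟩ := hC1R
  have hRofC1 : ∀ x ∈ C1, (∀ y ∈ C1, χ (cm x y) = 1) → x ∈ R := by
    intro x hx h y
    obtain ⟨v, hv, hfix, -⟩ := hsplit y
    show χ (cm x y) = 1
    have h1 := D0.β_mul_right x v⁻¹ (v * y)
    rw [inv_mul_cancel_left] at h1
    change χ (cm x y) = χ (cm x v⁻¹) * χ (cm x (v * y)) at h1
    have h2 := D0.β_mul_swap x (v * y)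
    change χ (cm x (v * y)) * χ (cm (v * y) x) = 1 at h2
    rw [horth _ x hfix hx, mul_one] at h2
    rw [h1, h _ (inv_mem hv), h2, one_mul]
  -- the radical acts by scalars on the inverted part
  have hw1 : ∀ w ∈ R, τ w = w⁻¹ → EV w = 1 := by
    intro w hw hτw
    by_contra hne
    have hRk : ((Nat.card Q : ℕ) : k) ≠ 0 := by rw [hcQ, Nat.cast_pow]; exact pow_ne_zero _ hqk
    obtain ⟨χ', v, hv0, hv, hχ'⟩ := Solvable.FPF.exists_weight' EV R
      (fun u hu y _ => by
        show EV u * EV y = EV y * EV u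
        rw [hβV, show χ (cm u y) = 1 from hu y, one_smul]) hw hRk
      (by rw [← map_pow, pow_card_eq_one', map_one]) hne
    have hmul : ∀ u y : R, χ' (u * y) = χ' u * χ' y := fun u y => by
      refine smul_left_injective k hv0 ?_
      show χ' (u * y) • v = (χ' u * χ' y) • v
      rw [← hv, Subgroup.coe_mul, map_mul, End.mul_apply, hv y, map_smul, hv u, smul_smul, mul_comm]
    let φR : MulAut R := MulEquiv.ofBijective
      ({ toFun := fun x => ⟨φ x, hφR x x.2⟩
         map_one' := Subtype.ext (map_one φ)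
         map_mul' := fun a b => Subtype.ext (map_mul φ _ _) } : R →* R)
      (Finite.injective_iff_bijective.mp fun a b hab =>
        Subtype.ext (φ.injective (congrArg Subtype.val hab)))
    have hφRv : ∀ (i : ℕ) (x : R), (((φR ^ i) x : R) : Q) = (φ ^ i) x := by
      intro i
      induction i with
      | zero => exact fun x => rfl
      | succ i ih =>
        intro x
        rw [pow_succ, MulAut.mul_apply, ih, pow_succ, MulAut.mul_apply]; rfl
    obtain ⟨N', hN', hN'd, hN'fix, hN'min⟩ := ShultGross.exists_period φR χ' (pow_pos two_pos m)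
      (MulEquiv.ext fun x => Subtype.ext (by rw [hφRv, hφm]; rfl))
    obtain ⟨j', hj', rfl⟩ := (Nat.dvd_prime_pow Nat.prime_two).mp hN'd
    rcases eq_or_lt_of_le hj' with rfl | hlt
    · refine orbit_sum_ne (fun r : R => EV (r : Q)) t0 φR (fun r => ht0E r) χ' v hv0 hv _ hN' hN'min ?_
      rw [← LinearMap.sum_apply, ht0norm, LinearMap.zero_apply]
    · have hfix' : ∀ (c : ℕ) (y : R), χ' ((φR ^ (2 ^ j' * c)) y) = χ' y := by
        intro c
        induction c with
        | zero => intro y; rfl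
        | succ c ih => intro y; rw [Nat.mul_succ, pow_add, MulAut.mul_apply, ih, hN'fix]
      obtain ⟨c, hc⟩ : 2 ^ j' ∣ 2 ^ (m - 1) := pow_dvd_pow 2 (by omega)
      have h1 : χ' ⟨w, hw⟩⁻¹ = χ' ⟨w, hw⟩ := by
        rw [← hfix' c ⟨w, hw⟩]
        congr 1
        refine Subtype.ext ?_
        rw [hφRv, ← hc, hφτ, hτw]; rfl
      have hone : χ' 1 = 1 := smul_left_injective k hv0
        (show χ' 1 • v = (1 : k) • v by rw [← hv, OneMemClass.coe_one, map_one, one_smul]; rfl)
      have h2 : χ' ⟨w, hw⟩ ^ 2 = 1 := by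
        rw [sq]; nth_rewrite 1 [← h1]; rw [← hmul, inv_mul_cancel, hone]
      have h3 : χ' ⟨w, hw⟩ ^ Nat.card Q = 1 := by
        have : ∀ i : ℕ, χ' (⟨w, hw⟩ ^ i) = χ' ⟨w, hw⟩ ^ i := by
          intro i
          induction i with
          | zero => rw [pow_zero, pow_zero]; exact hone
          | succ i ih => rw [pow_succ, pow_succ, ← ih, hmul]
        rw [← this, show (⟨w, hw⟩ : R) ^ Nat.card Q = 1 from Subtype.ext (by
          rw [SubmonoidClass.coe_pow]; exact pow_card_eq_one'), hone]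
      rw [hhalf, pow_succ, pow_mul, h2, one_pow, one_mul] at h3
      exact hχ' h3
  have hscalR : ∀ r ∈ C1, r ∈ R → ∃ c : k, EV r = c • 1 := by
    intro r hr hrR
    set w := τ r * r⁻¹ with hw
    have hτw : τ w = w⁻¹ := by rw [hw, map_mul, map_inv, hττ', mul_inv_rev, inv_inv]
    have hEw : EV w = 1 := hw1 w (mul_mem (hτR r hrR) (inv_mem hrR)) hτw
    have hzs : ∀ z : Z, EV (z : Q) = χ z • 1 := fun z =>
      LinearMap.ext fun v => Subtype.ext (hVmem.mp v.2 z)
    have hr2 : EV (r ^ 2) = χ ⟨_, (hC1 r).mp hr⟩ • 1 := by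
      rw [← hzs ⟨_, (hC1 r).mp hr⟩]
      show EV (r ^ 2) = EV (τ r * r)
      rw [show τ r * r = w * r ^ 2 by rw [hw, sq]; group, map_mul, hEw, one_mul]
    refine ⟨χ ⟨_, (hC1 r).mp hr⟩ ^ (half + 1), ?_⟩
    conv_lhs => rw [← hroot r, ← pow_mul, mul_comm, pow_mul]
    rw [map_pow, hr2, smul_pow, one_pow]
  have hφC1 : ∀ x ∈ C1, φ x ∈ C1 := fun x hx => by
    rw [hC1] at hx ⊢
    rw [show τ (φ x) = φ (τ x) by
      rw [hφdef, hτ, ← MulAut.mul_apply, ← MulAut.mul_apply, ← pow_add, ← pow_add, add_comm],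
      ← map_mul]
    exact hθZ N _ hx
  let φ1 : MulAut C1 := MulEquiv.ofBijective
    ({ toFun := fun x => ⟨φ x, hφC1 x x.2⟩
       map_one' := Subtype.ext (map_one φ)
       map_mul' := fun a b => Subtype.ext (map_mul φ _ _) } : C1 →* C1)
    (Finite.injective_iff_bijective.mp fun a b hab =>
      Subtype.ext (φ.injective (congrArg Subtype.val hab)))
  have hφ1v : ∀ (i : ℕ) (x : C1), (((φ1 ^ i) x : C1) : Q) = (φ ^ i) x := by
    intro i
    induction i with
    | zero => exact fun x => rfl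
    | succ i ih => intro x; rw [pow_succ, MulAut.mul_apply, ih, pow_succ, MulAut.mul_apply]; rfl
  let D1 : Data k V C1 :=
    { E := EV.comp C1.subtype, T := t0, φ := φ1, m := 2 ^ m, β := fun x y => χ (cm x y)
      hm := pow_pos two_pos m, hT := ht0m
      hφ := MulEquiv.ext fun x => Subtype.ext (by rw [hφ1v, hφm]; rfl)
      hTE := fun x => ht0E x, hβ := fun x y => hβV x y }
  have hR1 : ∀ x : C1, x ∈ D1.R ↔ (x : Q) ∈ R := fun x =>
    ⟨fun h => hRofC1 x x.2 fun y hy => h ⟨y, hy⟩, fun h y => h y⟩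
  have hne1 : D1.R ≠ ⊤ := fun h => hc₁R ((hR1 ⟨c₁, hc₁⟩).mp (h ▸ Subgroup.mem_top _))
  have hfree : D1.Free := by
    intro i x hi hx
    rw [hR1] at hx ⊢
    change (x : Q)⁻¹ * (((φ1 ^ i) x : C1) : Q) ∈ R at hx
    rw [hφ1v] at hx
    obtain ⟨g, hgm, hg⟩ := (Nat.dvd_prime_pow Nat.prime_two).mp (Nat.gcd_dvd_right i (2 ^ m))
    have hglt : g < m := by
      refine lt_of_le_of_ne hgm fun e => hi ?_
      show 2 ^ m ∣ i
      rw [← e, ← hg]; exact Nat.gcd_dvd_left i _
    obtain ⟨c, hc⟩ := pow_dvd_pow 2 (show g ≤ m - 1 by omega)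
    obtain ⟨d, -, hd⟩ := Nat.exists_mul_mod_eq_gcd (n := i) (k := 2 ^ m) (by
      rw [hg]; exact Nat.pow_lt_pow_right one_lt_two hglt)
    have hpowR : ∀ (t : ℕ), (x : Q)⁻¹ * (φ ^ (i * t)) x ∈ R := by
      intro t
      induction t with
      | zero => simp
      | succ t ih =>
        have hRi : ∀ (s : ℕ), ∀ y ∈ R, (φ ^ s) y ∈ R := by
          intro s
          induction s with
          | zero => intro y hy; simpa using hy
          | succ s ihs => intro y hy; rw [pow_succ, MulAut.mul_apply]; exact ihs _ (hφR y hy)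
        have h2 := mul_mem hx (hRi i _ ih)
        rw [map_mul, map_inv, mul_assoc, mul_inv_cancel_left, ← MulAut.mul_apply, ← pow_add,
          add_comm, ← Nat.mul_succ] at h2
        exact h2
    have hτx : (x : Q)⁻¹ * τ x ∈ R := by
      have h1 := hpowR (d * c)
      rwa [← mul_assoc, show i * d = 2 ^ m * (i * d / 2 ^ m) + i * d % 2 ^ m from
        (Nat.div_add_mod _ _).symm, hd, hg, add_mul, pow_add, mul_assoc (2 ^ m), pow_mul φ (2 ^ m),
        hφm, one_pow, one_mul, ← hc, hφτ] at h1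
    have h3 : (x : Q) * (x : Q) ∈ R := by
      have hz : τ x * x ∈ R := hZR ((hC1 _).mp x.2)
      have h4 : τ x * (x : Q)⁻¹ ∈ R := by
        have h5 := (Data.R_normal D0).conj_mem _ hτx (x : Q)
        rwa [mul_inv_cancel_left] at h5
      have := mul_mem (inv_mem h4) hz
      rwa [show (τ x * (x : Q)⁻¹)⁻¹ * (τ x * x) = (x : Q) * x by group] at this
    rw [← hroot (x : Q), ← pow_mul, mul_comm, pow_mul, sq]
    exact pow_mem h3 _
  obtain ⟨hidx, hcomm1⟩ := commutant_fixed_two (Q := C1) D1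
    (by
      obtain ⟨c, -, hc⟩ := (Nat.dvd_prime_pow hq).mp (hcQ ▸ Subgroup.card_subgroup_dvd_card C1)
      rw [← Nat.card_eq_fintype_card, hc, Nat.cast_pow]
      exact pow_ne_zero _ hqk)
    (fun r hr => hscalR r r.2 ((hR1 r).mp hr)) hne1 hfree (μ := m) rfl ht0norm
  -- the index
  have hrel : R.relIndex C1 = (2 ^ m - 1) ^ 2 := by
    rw [Subgroup.relIndex, ← hidx]
    congr 1
    ext x
    rw [Subgroup.mem_subgroupOf]
    exact (hR1 x).symm
  obtain ⟨c, -, hc⟩ := (Nat.dvd_prime_pow hq).mp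
    (hcQ ▸ ((Subgroup.relIndex_dvd_card R C1).trans (Subgroup.card_subgroup_dvd_card C1)))
  have hdvd : 2 ^ m - 1 ∣ q ^ c := by rw [← hc, hrel]; exact dvd_pow_self _ two_ne_zero
  obtain ⟨e, -, he⟩ := (Nat.dvd_prime_pow hq).mp hdvd
  have he0 : 0 < e := by
    refine Nat.pos_of_ne_zero fun h0 => hne1 (Subgroup.index_eq_one.mp ?_)
    rw [hidx]
    show (2 ^ m - 1) ^ 2 = 1
    rw [he, h0, pow_zero, one_pow]
  have hqe : q ^ e + 1 = 2 ^ m := by
    have := Nat.one_le_two_pow (n := m)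
    omega
  have he1 := exponent_eq_one_of_pred_two_pow (hq.odd_of_ne_two hq2) hq.one_lt he0 hqe
  subst he1
  rw [pow_one] at he hqe
  have hm2 : 2 ≤ m := by
    by_contra h
    have : 2 ^ m ≤ 2 ^ 1 := Nat.pow_le_pow_right (by norm_num) (by omega)
    have := hq.two_le
    omega
  refine ⟨hqe, hm2, fun x hx => ?_, C1 ⊔ R, le_sup_right,
    fun x => Subgroup.mem_sup_left (hwC1 x), ?_⟩
  · obtain ⟨v, hv, hfixv, hvH⟩ := hsplit x
    have hvR : v ∈ R := hvH R hx
    set u := v * x with hu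
    have hcm : t0 * EV u = EV u * t0 := hcomm1 (EV u) fun y => by
      show EV (y : Q) * EV u = EV u * EV (y : Q)
      rw [hβV u y, horth u y hfixv y.2, one_smul]
    have huR : φ u * u⁻¹ ∈ R := by
      have hEeq : EV (φ u) = EV u := by
        have h1 : EV (φ u) * t0 = EV u * t0 := by rw [← ht0E, hcm]
        have h2 := congrArg (· * t0 ^ (2 ^ m - 1)) h1
        simpa only [mul_assoc, ← pow_succ', Nat.sub_add_cancel Nat.one_le_two_pow, ht0m, mul_one] using h2
      intro y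
      refine D0.β_unique ?_
      show EV (φ u * u⁻¹) * EV y = (1 : k) • (EV y * EV (φ u * u⁻¹))
      rw [map_mul, hEeq, ← map_mul, mul_inv_cancel, map_one, one_smul, one_mul, mul_one]
    have hxu : x = v⁻¹ * u := by rw [hu, inv_mul_cancel_left]
    rw [hxu]
    show φ (v⁻¹ * u) * (v⁻¹ * u)⁻¹ ∈ R
    rw [map_mul, mul_inv_rev, inv_inv, show φ v⁻¹ * φ u * (u⁻¹ * v) = φ v⁻¹ * (φ u * u⁻¹) * v by group]
    exact mul_mem (mul_mem (hφR _ (inv_mem hvR)) huR) hvR
  · rw [← Subgroup.card_mul_index (R.subgroupOf (C1 ⊔ R)), ← Subgroup.relIndex,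
      @Subgroup.relIndex_sup_right _ _ C1 R (Data.R_normal D0), hrel, he,
      Nat.card_congr (Subgroup.subgroupOfEquivOfLe (le_sup_right : R ≤ C1 ⊔ R)).toEquiv]

end Cfsg.Agent.Lib.Solvable.GrossLength
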