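import Cfsg.Agent.Lib.Solvable.GrossTwo.Eigen

/-!
The exceptional situation of Hall and Higman in characteristic two: a class two group of operators
normalised by an element of order `m = 2 ^ μ` of norm zero, acting freely on the quotient by the
radical of the pairing.
-/

set_option autoImplicit false

namespace Cfsg.Agent.Lib.Solvable.GrossLength

open Module Cfsg.Agent.Lib.Solvable.GrossTwo Polynomial

variable {k : Type*} [Field k] {W : Type*} [AddCommGroup W] [Module k W]

open Polynomial in
theorem geom_eq_pow (p e : ℕ) [Fact p.Prime] [CharP k p] :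
    (∑ i ∈ Finset.range (p ^ e), (X : k[X]) ^ i) = (X - 1) ^ (p ^ e - 1) := by
  have h1 : (∑ i ∈ Finset.range (p ^ e), (X : k[X]) ^ i) * (X - 1) = (X - 1) ^ (p ^ e) := by
    rw [geom_sum_mul, sub_pow_char_pow, one_pow]
  conv at h1 => rhs; rw [← Nat.sub_add_cancel (Nat.one_le_pow e p (Fact.out : p.Prime).pos),
    pow_succ]
  exact mul_right_cancel₀ (by simpa using (X_sub_C_ne_zero (1 : k))) h1

/-- The norm of conjugation lands in a power of the nilpotent part. -/
theorem norm_range (p e s : ℕ) [Fact p.Prime] [CharP k p] (A A' : End k W)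
    (hA : A * A' = 1) (hA' : A' * A = 1) (hs : (A - 1) ^ s = 0) (hsn : s ≤ p ^ e)
    (B : End k W) :
    LinearMap.range (∑ i ∈ Finset.range (p ^ e), A ^ i * B * A' ^ i) ≤
      LinearMap.range ((A - 1) ^ (p ^ e - s)) := by
  let L : End k (End k W) := LinearMap.mulLeft k A
  let R : End k (End k W) := LinearMap.mulRight k A'
  let LN : End k (End k W) := LinearMap.mulLeft k (A - 1)
  let RN : End k (End k W) := LinearMap.mulRight k (A' - 1)
  have hLR : Commute L R := LinearMap.ext fun C => mul_assoc A C A' |>.symm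
  have hT : (L * R) ^ 1 - 1 = LN * R + RN := LinearMap.ext fun C => by
    simp [L, R, LN, RN, mul_assoc, sub_mul, mul_sub]
  have hsum : ∑ i ∈ Finset.range (p ^ e), A ^ i * B * A' ^ i =
      ((LN * R + RN) ^ (p ^ e - 1)) B := by
    have h := congrArg (fun f : Polynomial k => (Polynomial.aeval (L * R) f) B)
      (geom_eq_pow (k := k) p e)
    simp only [map_sum, map_pow, Polynomial.aeval_X, map_sub, map_one, LinearMap.sum_apply] at h
    rw [← hT, pow_one, ← h]
    refine Finset.sum_congr rfl fun i _ => ?_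
    rw [hLR.mul_pow, End.mul_apply]
    simp [L, R, LinearMap.pow_mulLeft, LinearMap.pow_mulRight, mul_assoc]
  have hcomm : Commute (LN * R) RN := by
    refine LinearMap.ext fun C => ?_
    simp [R, LN, RN, mul_assoc, mul_sub, sub_mul]
  have hNA : Commute (A - 1) A' := by
    show (A - 1) * A' = A' * (A - 1)
    rw [sub_mul, mul_sub, hA, hA', one_mul, mul_one]
  have hz : ∀ i, s ≤ i → (A' - 1) ^ i = 0 := by
    intro i hi
    have e1 : A' - 1 = -1 * A' * (A - 1) := by rw [mul_assoc, mul_sub, hA', mul_one]; simp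
    have hc : Commute (-1 * A') (A - 1) := (Commute.neg_one_left _).mul_left hNA.symm
    rw [e1, hc.mul_pow, pow_eq_zero_of_le hi hs, mul_zero]
  rw [hsum, hcomm.add_pow, LinearMap.sum_apply]
  rintro _ ⟨v, rfl⟩
  rw [LinearMap.sum_apply]
  refine Submodule.sum_mem _ fun j hj => ?_
  by_cases hjs : s ≤ p ^ e - 1 - j
  · have : RN ^ (p ^ e - 1 - j) = 0 := by
      rw [show RN = LinearMap.mulRight k (A' - 1) from rfl, LinearMap.pow_mulRight, hz _ hjs]
      exact LinearMap.ext fun C => by simp
    simp [this]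
  · have hj' : p ^ e - s ≤ j := by omega
    have hLN : Commute LN R := LinearMap.ext fun C => mul_assoc (A - 1) C A' |>.symm
    rw [hLN.mul_pow, mul_assoc, mul_assoc, End.mul_apply, show LN = LinearMap.mulLeft k (A - 1)
      from rfl, LinearMap.pow_mulLeft, LinearMap.mulLeft_apply, End.mul_apply,
      ← Nat.add_sub_cancel' hj', pow_add, End.mul_apply]
    exact LinearMap.mem_range_self _ _

theorem scalar_zero_of_range {N T : End k W} [FiniteDimensional k W] [Nontrivial W] {s : ℕ}
    (hN : N ^ s = 0) {c : k} (h : N = c • 1 + T) (hT : LinearMap.range T ≤ LinearMap.range N) :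
    c = 0 := by
  by_contra hc
  have hsurj : LinearMap.range N = ⊤ := by
    have hunit : IsUnit (N - c • (1 : End k W)) := by
      have h1 : IsNilpotent ((-c⁻¹) • N) := ⟨s, by rw [_root_.smul_pow, hN, smul_zero]⟩
      have h2 := h1.isUnit_one_add
      have h3 : N - c • (1 : End k W) = (-c) • (1 + (-c⁻¹) • N) := by
        rw [smul_add, smul_smul, neg_mul_neg, mul_inv_cancel₀ hc, one_smul, neg_smul]; abel
      rw [h3, Algebra.smul_def]
      exact ((isUnit_iff_ne_zero.2 (neg_ne_zero.2 hc)).map _).mul h2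
    have hT' : T = N - c • 1 := by rw [h]; abel
    rw [← hT'] at hunit
    exact top_le_iff.1 ((LinearMap.range_eq_top.2 ((End.isUnit_iff _).1 hunit).2).ge.trans hT)
  have hs : ∀ i, LinearMap.range (N ^ i) = ⊤ := by
    intro i
    induction i with
    | zero => rw [pow_zero]; exact LinearMap.range_id
    | succ i ih =>
      rw [pow_succ', End.mul_eq_comp, LinearMap.range_comp, ih, Submodule.map_top, hsurj]
  have := hs s
  rw [hN, LinearMap.range_zero] at this
  exact bot_ne_top this

/-- The derivative of the norm polynomial in characteristic two. -/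
theorem sum_natCast_smul_pow [CharP k 2] (μ : ℕ) (hμ : 0 < μ) (A : End k W) :
    ∑ i ∈ Finset.range (2 ^ μ), (i : k) • A ^ i = A * (A - 1) ^ (2 ^ μ - 2) := by
  haveI : Fact (Nat.Prime 2) := ⟨Nat.prime_two⟩
  have h := congrArg (fun f => (Polynomial.aeval A) (X * derivative f)) (geom_eq_pow (k := k) 2 μ)
  have h1 : ((2 ^ μ - 1 : ℕ) : k) = 1 := by
    rw [Nat.cast_sub Nat.one_le_two_pow, Nat.cast_pow, Nat.cast_ofNat,
      show (2 : k) = 0 from by exact_mod_cast CharP.cast_eq_zero k 2, zero_pow hμ.ne', Nat.cast_one,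
      zero_sub, CharTwo.neg_eq]
  simp only [derivative_sum, derivative_X_pow, derivative_pow, derivative_sub, derivative_X,
    derivative_one, sub_zero, mul_one, map_mul, map_sum, map_pow, map_sub, map_one,
    Polynomial.aeval_X, Polynomial.aeval_C, Finset.mul_sum, h1] at h
  rw [show 2 ^ μ - 2 = 2 ^ μ - 1 - 1 by omega]
  rw [one_mul] at h
  rw [← h]
  refine Finset.sum_congr rfl fun i _ => ?_
  rcases i with _ | i
  · simp
  · rw [Nat.add_sub_cancel, ← mul_assoc, ← Algebra.commutes, mul_assoc, ← pow_succ',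
      Algebra.smul_def, Nat.cast_succ]

variable {Q : Type*} [Group Q] [Fintype Q] (D : Data k W Q)

/-- Irreducibility under the group alone. -/
def Irr : Prop := ∀ U : Submodule k W, (∀ x, ∀ w ∈ U, D.E x w ∈ U) → U = ⊥ ∨ U = ⊤

/-- The powers of `T` twist the operators. -/
theorem T_pow_E (i : ℕ) (x : Q) : D.T ^ i * D.E x = D.E ((D.φ ^ i) x) * D.T ^ i := by
  induction i generalizing x with
  | zero => simp
  | succ i ih =>
    rw [pow_succ D.T, pow_succ D.φ, mul_assoc, D.hTE, ← mul_assoc, ih, MulAut.mul_apply, mul_assoc]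

/-- Any two invariant subspaces are linked by a commuting operator. -/
theorem exists_equivariant [Nontrivial W] (hQ : (Fintype.card Q : k) ≠ 0) (hR : D.RadScalar)
    (U U' : Submodule k W) (hU : U ≠ ⊥) (hU' : U' ≠ ⊥) (hUE : ∀ x, ∀ w ∈ U, D.E x w ∈ U)
    (hUE' : ∀ x, ∀ w ∈ U', D.E x w ∈ U') :
    ∃ g : End k W, (∀ x, D.E x * g = g * D.E x) ∧ (∀ w ∈ U, g w ∈ U') ∧ ∃ w ∈ U, g w ≠ 0 := by
  classical
  letI : Fintype (Q ⧸ D.R) := Fintype.ofFinite _
  obtain ⟨a, haU, ha0⟩ := (Submodule.ne_bot_iff _).mp hU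
  obtain ⟨b, hbU, hb0⟩ := (Submodule.ne_bot_iff _).mp hU'
  obtain ⟨φ, hφ⟩ := Module.Projective.exists_dual_ne_zero k ha0
  set f : End k W := φ.smulRight b with hf
  have hfa : f a ≠ 0 := by
    simp only [f, LinearMap.smulRight_apply, ne_eq, smul_eq_zero, not_or]
    exact ⟨hφ, hb0⟩
  have hfU : ∀ w, f w ∈ U' := fun w => U'.smul_mem _ hbU
  obtain ⟨u, hu⟩ : ∃ u : Q ⧸ D.R, D.P u.out f a ≠ 0 := by
    by_contra h
    push Not at h
    apply hfa
    rw [← D.sum_P hQ hR f, LinearMap.sum_apply]
    exact Finset.sum_eq_zero fun u _ => h u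
  refine ⟨D.E u.out⁻¹ * D.P u.out f, fun x => ?_, fun w _ => ?_, a, haU, fun e => hu ?_⟩
  · rw [← mul_assoc, D.hβ, smul_mul_assoc, mul_assoc, D.inPart_P, mul_smul_comm, smul_smul,
      ← D.β_mul_right, inv_mul_cancel, Data.β_one_right, one_smul, mul_assoc]
  · rw [End.mul_apply]
    refine hUE' _ _ ?_
    rw [Data.P_apply, LinearMap.smul_apply, LinearMap.sum_apply]
    refine U'.smul_mem _ (Submodule.sum_mem _ fun x _ => ?_)
    rw [LinearMap.smul_apply, End.mul_apply, End.mul_apply]
    exact U'.smul_mem _ (hUE' _ _ (hfU _))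
  · rw [End.mul_apply] at e
    have h1 := congrArg (D.E u.out) e
    rw [← End.mul_apply, D.E_mul_inv, map_zero] at h1
    exact h1

/-- A minimal invariant subspace for the group and `T` is irreducible for the group alone. -/
theorem irr_of_minimal [IsAlgClosed k] [FiniteDimensional k W] [Nontrivial W] [CharP k 2]
    (hQ : (Fintype.card Q : k) ≠ 0) (hR : D.RadScalar) {μ : ℕ} (hm : D.m = 2 ^ μ)
    (hmin : ∀ U : Submodule k W, (∀ x, ∀ w ∈ U, D.E x w ∈ U) → (∀ w ∈ U, D.T w ∈ U) →
      U = ⊥ ∨ U = ⊤) : Irr D := by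
  classical
  haveI : Fact (Nat.Prime 2) := ⟨Nat.prime_two⟩
  have hex : ∃ d, ∃ U : Submodule k W, U ≠ ⊥ ∧ (∀ x, ∀ w ∈ U, D.E x w ∈ U) ∧ finrank k U = d :=
    ⟨_, ⊤, top_ne_bot, fun _ _ _ => trivial, rfl⟩
  obtain ⟨U, hU0, hUE, hd⟩ := Nat.find_spec hex
  have hUm : ∀ J ≤ U, (∀ x, ∀ w ∈ J, D.E x w ∈ J) → J = ⊥ ∨ J = U := by
    intro J hJ hJE
    by_cases h : J = ⊥
    · exact Or.inl h
    · exact Or.inr (Submodule.eq_of_le_of_finrank_le hJ (hd ▸ Nat.find_le ⟨J, h, hJE, rfl⟩))
  haveI : Nontrivial U := Submodule.nontrivial_iff_ne_bot.mpr hU0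
  have hETU : ∀ x, ∀ w ∈ U.map D.T, D.E x w ∈ U.map D.T := by
    rintro x _ ⟨w, hw, rfl⟩
    refine ⟨_, hUE (D.φ.symm x) w hw, ?_⟩
    rw [← End.mul_apply, D.hTE, MulEquiv.apply_symm_apply]
    rfl
  have hTinj : Function.Injective D.T := fun a b h => by
    have h1 := congrArg (D.T ^ (D.m - 1)) h
    rwa [← End.mul_apply, ← End.mul_apply, D.pred_mul_T] at h1
  have hTU0 : U.map D.T ≠ ⊥ := fun e => hU0
    (Submodule.map_injective_of_injective hTinj (e.trans (Submodule.map_bot _).symm))
  obtain ⟨g, hgE, hgU, hg0⟩ := exists_equivariant D hQ hR _ U hTU0 hU0 hETU hUE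
  let eU : Q →* End k U :=
    { toFun := fun x => (D.E x).restrict (hUE x)
      map_one' := LinearMap.ext fun w => Subtype.ext (by simp)
      map_mul' := fun x y => LinearMap.ext fun w => Subtype.ext (by simp) }
  let A : End k U := ((g * D.T).comp U.subtype).codRestrict U fun w => hgU _ ⟨w, w.2, rfl⟩
  have hAE : ∀ x (w : U), A (eU x w) = eU (D.φ x) (A w) := fun x w => Subtype.ext (by
    show g (D.T (D.E x w)) = D.E (D.φ x) (g (D.T w))
    rw [← End.mul_apply D.T, D.hTE, End.mul_apply, ← End.mul_apply g, ← hgE, End.mul_apply])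
  have hAinj : Function.Injective A := by
    rw [← LinearMap.ker_eq_bot]
    rcases hUm ((LinearMap.ker A).map U.subtype) (U.map_subtype_le _) (by
      rintro x _ ⟨w, hw, rfl⟩
      refine ⟨eU x w, ?_, rfl⟩
      rw [SetLike.mem_coe, LinearMap.mem_ker] at hw ⊢
      rw [hAE, hw, map_zero]) with h | h
    · exact Submodule.map_injective_of_injective U.injective_subtype
        (h.trans (Submodule.map_bot _).symm)
    · exfalso
      obtain ⟨_, ⟨w, hw, rfl⟩, hw0⟩ := hg0
      obtain ⟨v, hv, hvw⟩ := (h.symm ▸ hw : w ∈ (LinearMap.ker A).map U.subtype)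
      subst hvw
      exact hw0 (congrArg Subtype.val (show A v = 0 from hv))
  have hpow : ∀ i x (w : U), (A ^ i) (eU x w) = eU ((D.φ ^ i) x) ((A ^ i) w) := by
    intro i
    induction i with
    | zero => intro x w; simp
    | succ i ih =>
      intro x w
      rw [pow_succ, End.mul_apply, hAE, ih, pow_succ, MulAut.mul_apply]
      rfl
  obtain ⟨c, hc⟩ := End.exists_eigenvalue (A ^ D.m)
  have hcU : A ^ D.m = c • 1 := by
    rcases hUm ((End.eigenspace (A ^ D.m) c).map U.subtype) (U.map_subtype_le _) (by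
      rintro x _ ⟨w, hw, rfl⟩
      refine ⟨eU x w, ?_, rfl⟩
      rw [SetLike.mem_coe, End.mem_eigenspace_iff] at hw ⊢
      rw [hpow, D.hφ, hw, map_smul]; rfl) with h | h
    · exact absurd (Submodule.map_injective_of_injective U.injective_subtype
        (h.trans (Submodule.map_bot _).symm)) hc
    · refine LinearMap.ext fun w => ?_
      obtain ⟨v, hv, hvw⟩ := (h.symm ▸ w.2 : (w : W) ∈ (End.eigenspace (A ^ D.m) c).map U.subtype)
      rw [← Subtype.ext (show (v : W) = w from hvw)]
      exact End.mem_eigenspace_iff.mp hv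
  have hc0 : c ≠ 0 := by
    intro e
    obtain ⟨w, hw⟩ := exists_ne (0 : U)
    apply hw
    have hinj : Function.Injective (A ^ D.m) := by
      rw [End.coe_pow]; exact hAinj.iterate _
    exact hinj (by rw [hcU, e, zero_smul, LinearMap.zero_apply, LinearMap.zero_apply])
  obtain ⟨a, ha⟩ := IsAlgClosed.exists_pow_nat_eq c D.hm
  have ha0 : a ≠ 0 := fun e => hc0 (by rw [← ha, e, zero_pow D.hm.ne'])
  set A' : End k U := a⁻¹ • A with hA'
  have hA'm : A' ^ D.m = 1 := by
    rw [hA', _root_.smul_pow, hcU, smul_smul, inv_pow, ha, inv_mul_cancel₀ hc0, one_smul]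
  have hA'E : ∀ x (w : U), A' (eU x w) = eU (D.φ x) (A' w) := fun x w => by
    simp [A', hAE]
  let M : Submodule k (U →ₗ[k] W) :=
    { carrier := {h | ∀ x, h.comp (eU x) = (D.E x).comp h}
      zero_mem' := fun x => by simp
      add_mem' := fun {h h'} hh hh' x => by rw [LinearMap.add_comp, hh x, hh' x, LinearMap.comp_add]
      smul_mem' := fun c h hh x => by rw [LinearMap.smul_comp, hh x, LinearMap.comp_smul] }
  let σ₀ : End k (U →ₗ[k] W) :=
    (LinearMap.lcomp k W (A' ^ (D.m - 1))) * (LinearMap.llcomp k U W W D.T)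
  have hσ₀ : ∀ h : U →ₗ[k] W, σ₀ h = (D.T.comp h).comp (A' ^ (D.m - 1)) := fun h => rfl
  have hA'1 : A' * A' ^ (D.m - 1) = 1 := by rw [← pow_succ', Nat.sub_add_cancel D.hm, hA'm]
  have hσM : ∀ h ∈ M, σ₀ h ∈ M := by
    intro h hh x
    refine LinearMap.ext fun w => ?_
    show D.T (h ((A' ^ (D.m - 1)) (eU x w))) = D.E x (D.T (h ((A' ^ (D.m - 1)) w)))
    set w' := (A' ^ (D.m - 1)) w
    have hw : (A' ^ (D.m - 1)) (eU x w) = eU (D.φ.symm x) w' := by
      have h1 : eU x w = A' (eU (D.φ.symm x) w') := by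
        rw [hA'E, MulEquiv.apply_symm_apply]
        congr 1
        rw [← End.mul_apply, hA'1, End.one_apply]
      rw [h1, ← End.mul_apply, ← pow_succ, Nat.sub_add_cancel D.hm, hA'm, End.one_apply]
    rw [hw, show h (eU (D.φ.symm x) w') = D.E (D.φ.symm x) (h w') from LinearMap.congr_fun (hh _) w',
      ← End.mul_apply D.T, D.hTE, MulEquiv.apply_symm_apply]
    rfl
  set σ : End k M := σ₀.restrict hσM with hσ
  have hσpow : ∀ i (h : M), (((σ ^ i) h : M) : U →ₗ[k] W) =
      ((D.T ^ i).comp (h : U →ₗ[k] W)).comp ((A' ^ (D.m - 1)) ^ i) := by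
    intro i
    induction i with
    | zero => intro h; ext w; simp
    | succ i ih =>
      intro h
      rw [pow_succ', End.mul_apply]
      show σ₀ _ = _
      rw [Submodule.coe_subtype, hσ₀, ih, pow_succ' D.T, pow_succ (A' ^ (D.m - 1))]
      rfl
  have hσm : (σ - (1 : End k M)) ^ D.m = 0 := by
    have h1 : σ ^ D.m = 1 := LinearMap.ext fun h => Subtype.ext (by
      rw [hσpow, D.hT, ← pow_mul, mul_comm, pow_mul, hA'm, one_pow]; rfl)
    haveI : Nontrivial M := ⟨⟨⟨U.subtype, fun x => LinearMap.ext fun w => rfl⟩, 0, fun e => by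
      obtain ⟨w, hw⟩ := exists_ne (0 : U)
      exact hw (Subtype.ext (LinearMap.congr_fun (congrArg Subtype.val e) w))⟩⟩
    haveI : CharP (End k M) 2 := charP_of_injective_algebraMap' k 2
    rw [hm, sub_pow_char_pow_of_commute (R := Module.End k M) (x := σ) (y := 1) 2 μ
      (Commute.one_right (M := Module.End k M) σ), ← hm, h1, one_pow, sub_self]
  obtain ⟨h, hh0, hhT⟩ : ∃ h : M, h ≠ 0 ∧ σ h = h := by
    by_contra hne
    push Not at hne
    have hinj : Function.Injective (σ - (1 : End k M)) := by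
      rw [← LinearMap.ker_eq_bot, eq_bot_iff]
      intro h hh
      rw [LinearMap.mem_ker, LinearMap.sub_apply, End.one_apply, sub_eq_zero] at hh
      by_contra h0
      exact hne h h0 hh
    have hinj' : Function.Injective ((σ - (1 : End k M)) ^ D.m) := by
      rw [End.coe_pow]; exact hinj.iterate _
    have h1 : (⟨U.subtype, fun x => LinearMap.ext fun w => rfl⟩ : M) = 0 :=
      hinj' (by rw [hσm, LinearMap.zero_apply, LinearMap.zero_apply])
    obtain ⟨w, hw⟩ := exists_ne (0 : U)
    exact hw (Subtype.ext (LinearMap.congr_fun (congrArg Subtype.val h1) w))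
  have hEh : ∀ x w, D.E x ((h : U →ₗ[k] W) w) = (h : U →ₗ[k] W) (eU x w) := fun x w =>
    (LinearMap.congr_fun (h.2 x) w).symm
  have hTh : ∀ w, D.T ((h : U →ₗ[k] W) w) = (h : U →ₗ[k] W) (A' w) := by
    intro w
    have h1 := LinearMap.congr_fun (congrArg Subtype.val hhT) (A' w)
    change D.T ((h : U →ₗ[k] W) ((A' ^ (D.m - 1)) (A' w))) = _ at h1
    rwa [← End.mul_apply (A' ^ (D.m - 1)), ← pow_succ, Nat.sub_add_cancel D.hm, hA'm,
      End.one_apply] at h1
  have hrange : LinearMap.range (h : U →ₗ[k] W) = ⊤ := by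
    refine (hmin _ ?_ ?_).resolve_left fun e => hh0 (Subtype.ext (LinearMap.range_eq_bot.mp e))
    · rintro x _ ⟨w, rfl⟩; exact ⟨_, (hEh x w).symm⟩
    · rintro _ ⟨w, rfl⟩; exact ⟨_, (hTh w).symm⟩
  intro J hJ
  rcases hUm (((J.comap (h : U →ₗ[k] W)).map U.subtype)) (U.map_subtype_le _) (by
    rintro x _ ⟨w, hw, rfl⟩
    refine ⟨eU x w, ?_, rfl⟩
    show (h : U →ₗ[k] W) (eU x w) ∈ J
    rw [← hEh]; exact hJ x _ hw) with e | e
  · refine Or.inl (eq_bot_iff.mpr fun j hj => ?_)
    obtain ⟨w, rfl⟩ := (hrange.symm ▸ Submodule.mem_top : j ∈ LinearMap.range (h : U →ₗ[k] W))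
    have hw0 : (w : W) = 0 := (Submodule.mem_bot k).mp (e ▸ ⟨w, hj, rfl⟩)
    rw [Submodule.mem_bot, show w = 0 from Subtype.ext hw0, map_zero]
  · refine Or.inr (eq_top_iff.mpr fun j _ => ?_)
    obtain ⟨w, rfl⟩ := (hrange.symm ▸ Submodule.mem_top : j ∈ LinearMap.range (h : U →ₗ[k] W))
    obtain ⟨v, hv, hvw⟩ := (e.symm ▸ w.2 : (w : W) ∈ (J.comap (h : U →ₗ[k] W)).map U.subtype)
    rw [← Subtype.ext (show (v : W) = w from hvw)]
    exact hv

omit [Fintype Q] in
/-- An indicator of representatives of the orbits of `φ` on the quotient. -/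
theorem exists_pick [Nontrivial W] [Finite Q] (hfree : D.Free) :
    ∃ c : Q ⧸ D.R → k, c 1 = 0 ∧
      ∀ u, u ≠ 1 → ∑ i ∈ Finset.range D.m, c (D.step^[i] u) = 1 := by
  classical
  let O : Q ⧸ D.R → Set (Q ⧸ D.R) := fun u => {v | ∃ i, D.step^[i] u = v}
  have hO : ∀ i u, O (D.step^[i] u) = O u := fun i u => by
    ext v
    constructor
    · rintro ⟨l, rfl⟩
      exact ⟨l + i, Function.iterate_add_apply _ _ _ _⟩
    · rintro ⟨l, rfl⟩
      refine ⟨l + (D.m * i - i), ?_⟩
      rw [← Function.iterate_add_apply, add_assoc,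
        Nat.sub_add_cancel (Nat.le_mul_of_pos_left i D.hm), Function.iterate_add_apply,
        D.step_iterate_mul]
  let pick : Set (Q ⧸ D.R) → Q ⧸ D.R := fun s => if h : s.Nonempty then h.some else 1
  have hpick : ∀ u, pick (O u) ∈ O u := fun u => by
    have hne : (O u).Nonempty := ⟨u, 0, rfl⟩
    simp only [pick, dif_pos hne]
    exact hne.some_mem
  have hinj : ∀ u, u ≠ 1 → ∀ i, D.step^[i] u = u → D.m ∣ i := by
    intro u hu i hi
    induction u using QuotientGroup.induction_on with
    | H a =>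
      by_contra hd
      rw [D.step_iterate] at hi
      exact hu ((QuotientGroup.eq_one_iff a).mpr (hfree i a hd (QuotientGroup.eq.mp hi.symm)))
  refine ⟨fun u => if u ≠ 1 ∧ pick (O u) = u then 1 else 0, if_neg fun h => h.1 rfl,
    fun u hu => ?_⟩
  obtain ⟨l, hl⟩ := hpick u
  have hne : ∀ i, D.step^[i] u ≠ 1 := fun i e =>
    hu ((D.step_bijective.1.iterate i) (e.trans (Function.iterate_fixed D.step_one i).symm))
  rw [Finset.sum_eq_single (l % D.m)]
  · refine if_pos ⟨hne _, ?_⟩
    rw [hO, ← hl]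
    nth_rewrite 1 [← Nat.mod_add_div l D.m]
    rw [Function.iterate_add_apply, D.step_iterate_mul]
  · intro i hi hil
    refine if_neg fun h => hil ?_
    have h1 : D.step^[i] u = D.step^[l % D.m] u := by
      rw [← h.2, hO, ← hl]
      nth_rewrite 1 [← Nat.mod_add_div l D.m]
      rw [Function.iterate_add_apply, D.step_iterate_mul]
    have hi' := Finset.mem_range.mp hi
    have hl' := Nat.mod_lt l D.hm
    rcases le_total i (l % D.m) with hle | hle
    · rw [← Nat.sub_add_cancel hle, Function.iterate_add_apply] at h1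
      obtain ⟨c, hc⟩ := hinj _ (hne i) _ h1.symm
      rcases Nat.eq_zero_or_pos c with rfl | hc0
      · omega
      · have := Nat.le_mul_of_pos_right D.m hc0; omega
    · rw [← Nat.sub_add_cancel hle, Function.iterate_add_apply] at h1
      obtain ⟨c, hc⟩ := hinj _ (hne (l % D.m)) _ h1
      rcases Nat.eq_zero_or_pos c with rfl | hc0
      · omega
      · have := Nat.le_mul_of_pos_right D.m hc0; omega
  · exact fun h => absurd (Finset.mem_range.mpr (Nat.mod_lt l D.hm)) h

omit [Fintype Q] in
/-- The powers of conjugation by `T`. -/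
theorem K_pow_apply [Nontrivial W] (i : ℕ) (f : End k W) :
    (D.K ^ i) f = D.T ^ i * f * (D.T ^ (D.m - 1)) ^ i := by
  induction i generalizing f with
  | zero => simp
  | succ i ih =>
    rw [pow_succ D.K, End.mul_apply, ih, Data.K_apply, pow_succ D.T, pow_succ' (D.T ^ (D.m - 1))]
    simp only [mul_assoc]

/-- The exceptional situation: the dimension is `m - 1`, with a single Jordan block. -/
theorem exceptional_two [IsAlgClosed k] [FiniteDimensional k W] [Nontrivial W] [CharP k 2]
    (hQ : (Fintype.card Q : k) ≠ 0) (hR : D.RadScalar) (hne : D.R ≠ ⊤) (hfree : D.Free)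
    {μ : ℕ} (hm : D.m = 2 ^ μ) (hnorm : ∑ i ∈ Finset.range D.m, D.T ^ i = 0)
    (hirr : Irr D) :
    finrank k W + 1 = D.m ∧ D.R.index = finrank k W ^ 2 ∧ (D.T - 1) ^ (D.m - 2) ≠ 0 := by
  classical
  haveI : Fact (Nat.Prime 2) := ⟨Nat.prime_two⟩
  letI : Fintype (Q ⧸ D.R) := Fintype.ofFinite _
  -- the commutant consists of scalars
  have hC : ∀ f : End k W, D.InPart 1 f → ∃ c : k, f = c • 1 := by
    intro f hf
    have hE : ∀ x, D.E x * f = f * D.E x := fun x => by rw [hf, Data.β_one_right, one_smul]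
    obtain ⟨c, hc⟩ := End.exists_eigenvalue f
    rcases hirr (End.eigenspace f c) (fun x w hw => by
        rw [End.mem_eigenspace_iff] at hw ⊢
        rw [← End.mul_apply, ← hE, End.mul_apply, hw, map_smul]) with h | h
    · exact absurd h hc
    · exact ⟨c, LinearMap.ext fun w => End.mem_eigenspace_iff.mp (h ▸ Submodule.mem_top (x := w))⟩
  -- counting
  let Φ : (Q ⧸ D.R → k) →ₗ[k] End k W :=
    Fintype.linearCombination k fun u : Q ⧸ D.R => D.E u.out
  have hpart : ∀ a : Q, D.InPart a (D.E a) := fun a z => D.hβ z a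
  have hΦ : Function.Bijective Φ := by
    constructor
    · intro a a' h
      funext v
      have h1 := congrArg (D.P v.out) h
      simp only [Φ, Fintype.linearCombination_apply, map_sum, map_smul,
        D.P_of_inPart hQ _ _ (hpart _), QuotientGroup.out_eq', smul_ite, smul_zero,
        Finset.sum_ite_eq, Finset.mem_univ, if_true] at h1
      refine smul_left_injective k ?_ h1
      intro h0
      have := D.E_inv_mul v.out
      rw [h0, mul_zero] at this
      exact zero_ne_one this
    · intro f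
      have : ∀ u : Q ⧸ D.R, ∃ μ : k, D.P u.out f = μ • D.E u.out := fun u => by
        obtain ⟨μ, hμ⟩ := hC (D.E u.out⁻¹ * D.P u.out f) (fun z => by
          rw [Data.β_one_right, one_smul, ← mul_assoc, D.hβ, smul_mul_assoc, mul_assoc, D.inPart_P,
            mul_smul_comm, smul_smul, ← D.β_mul_right, inv_mul_cancel, Data.β_one_right, one_smul,
            mul_assoc])
        refine ⟨μ, ?_⟩
        rw [← one_mul (D.P u.out f), ← D.E_mul_inv u.out, mul_assoc, hμ, mul_smul_comm, mul_one]
      choose μ hμ using this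
      refine ⟨μ, ?_⟩
      rw [← D.sum_P hQ hR f]
      simp only [Φ, Fintype.linearCombination_apply, hμ]
  have hindex : D.R.index = finrank k W ^ 2 := by
    rw [Subgroup.index, Nat.card_eq_fintype_card, ← Module.finrank_fintype_fun_eq_card k,
      (LinearEquiv.ofBijective Φ hΦ).finrank_eq, Module.finrank_linearMap, sq]
  -- commuting operators
  have hcent : ∀ f : End k W, D.T * f = f * D.T → ∃ (c : k) (B : End k W),
      f = c • 1 + ∑ i ∈ Finset.range D.m, D.T ^ i * B * (D.T ^ (D.m - 1)) ^ i := by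
    intro f hf
    obtain ⟨c, hc1, hc⟩ := exists_pick (k := k) D hfree
    obtain ⟨a, ha⟩ := hC (D.P 1 f) (D.inPart_P 1 f)
    refine ⟨a, ∑ u, c u • D.P u.out f, ?_⟩
    have hKf : D.K f = f := by
      rw [Data.K_apply, ← mul_assoc, hf, mul_assoc, D.T_mul_pred, mul_one]
    have hKs : ∀ (i : ℕ) (u : Q ⧸ D.R), (D.K ^ i) (D.P u.out f) = D.P (D.step^[i] u).out f := by
      intro i
      induction i with
      | zero => intro u; simp
      | succ i ih =>
        intro u
        rw [pow_succ', End.mul_apply, ih, D.K_P, hKf, Function.iterate_succ_apply']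
        exact congrArg (fun P => P f) (D.P_congr (QuotientGroup.out_eq' (D.step (D.step^[i] u))).symm)
    have hsum : ∑ i ∈ Finset.range D.m, D.T ^ i * (∑ u, c u • D.P u.out f) * (D.T ^ (D.m - 1)) ^ i =
        ∑ u : Q ⧸ D.R, (if u = 1 then (0 : k) else 1) • D.P u.out f := by
      simp only [← K_pow_apply, map_sum, map_smul, hKs]
      have hre : ∀ i ∈ Finset.range D.m, ∑ u, c u • D.P (D.step^[i] u).out f =
          ∑ v, c (D.step^[D.m - i] v) • D.P v.out f := by
        intro i hi
        refine Fintype.sum_equiv (Equiv.ofBijective _ (D.step_bijective.iterate i)) _ _ fun u => ?_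
        show _ = c (D.step^[D.m - i] (D.step^[i] u)) • _
        rw [← Function.iterate_add_apply, Nat.sub_add_cancel (Finset.mem_range.mp hi).le,
          D.step_iterate_m]
        rfl
      rw [Finset.sum_congr rfl hre, Finset.sum_comm]
      refine Finset.sum_congr rfl fun v _ => ?_
      rw [← Finset.sum_smul]
      congr 1
      have hflip : ∑ i ∈ Finset.range D.m, c (D.step^[D.m - i] v) =
          ∑ i ∈ Finset.range D.m, c (D.step^[i] (D.step v)) := by
        rw [← Finset.sum_range_reflect (fun i => c (D.step^[i] (D.step v)))]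
        refine Finset.sum_congr rfl fun i hi => ?_
        have := Finset.mem_range.mp hi
        rw [← Function.iterate_succ_apply D.step, show (D.m - 1 - i).succ = D.m - i by omega]
      rw [hflip]
      split_ifs with hv
      · subst hv
        refine Finset.sum_eq_zero fun i _ => ?_
        rw [D.step_one, Function.iterate_fixed D.step_one, hc1]
      · exact hc _ fun e => hv (D.step_bijective.1 (e.trans D.step_one.symm))
    have h1 : a • (1 : End k W) = ∑ u : Q ⧸ D.R, (if u = 1 then (1 : k) else 0) • D.P u.out f := by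
      rw [← ha, Finset.sum_eq_single (1 : Q ⧸ D.R) (fun u _ hu => by rw [if_neg hu, zero_smul])
        (fun h => absurd (Finset.mem_univ _) h), if_pos rfl, one_smul,
        D.P_congr (QuotientGroup.out_eq' (1 : Q ⧸ D.R))]
    rw [hsum, h1, ← Finset.sum_add_distrib]
    refine (D.sum_P hQ hR f).symm.trans (Finset.sum_congr rfl fun u _ => ?_)
    split_ifs <;> simp
  set N := D.T - 1 with hN
  set T' := D.T ^ (D.m - 1) with hT'
  have hA : D.T * T' = 1 := D.T_mul_pred
  have hA' : T' * D.T = 1 := D.pred_mul_T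
  have hnil : N ^ (D.m - 1) = 0 := by
    have h := congrArg (fun f => (Polynomial.aeval D.T) f) (geom_eq_pow (k := k) 2 μ)
    simp only [map_sum, map_pow, Polynomial.aeval_X, map_sub, map_one, ← hm, hnorm] at h
    exact h.symm
  have hex : ∃ s, N ^ s = 0 := ⟨_, hnil⟩
  set s := Nat.find hex with hsdef
  have hs : N ^ s = 0 := Nat.find_spec hex
  have hmin : ∀ l < s, N ^ l ≠ 0 := fun l hl => Nat.find_min hex hl
  have hsm : s ≤ D.m - 1 := Nat.find_le hnil
  clear_value s
  have hs1 : 1 ≤ s := Nat.one_le_iff_ne_zero.2 fun h => by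
    rw [h, pow_zero] at hs; exact one_ne_zero hs
  have hAne : N ≠ 0 := by
    intro h
    rw [hN, sub_eq_zero] at h
    refine hne (eq_top_iff.mpr fun x _ => ?_)
    by_contra hx
    have h2 : D.E x = D.E (D.φ x) := by simpa [h] using D.hTE x
    refine hx (hfree 1 x (fun hd => ?_) fun y => ?_)
    · have h1 := Nat.le_of_dvd one_pos hd
      have hd1 : D.m = 1 := le_antisymm h1 D.hm
      rw [hd1, Nat.sub_self] at hsm
      omega
    · refine D.β_unique ?_
      rw [pow_one, map_mul, ← h2, ← map_mul D.E x⁻¹, inv_mul_cancel, map_one, one_smul, one_mul,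
        mul_one]
  have hrg : ∀ B, LinearMap.range (∑ i ∈ Finset.range D.m, D.T ^ i * B * T' ^ i) ≤
      LinearMap.range (N ^ (D.m - s)) := fun B => by
    rw [hm]
    exact norm_range 2 μ s _ _ hA hA' hs (by omega) B
  have hlow : D.m - 1 ≤ s := by
    by_contra hlt
    obtain ⟨c, B', hB'⟩ := hcent N (by rw [hN, mul_sub, sub_mul, mul_one, one_mul])
    set Sg := ∑ i ∈ Finset.range D.m, D.T ^ i * B' * T' ^ i
    have hT : LinearMap.range Sg ≤ LinearMap.range (N * N) := by
      refine (hrg B').trans ?_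
      rw [show D.m - s = 2 + (D.m - s - 2) by omega, pow_add, pow_two, End.mul_eq_comp (N * N)]
      exact LinearMap.range_comp_le_range _ _
    have hc : c = 0 := scalar_zero_of_range hs hB' (hT.trans (LinearMap.range_comp_le_range N N))
    rw [hc, zero_smul, zero_add] at hB'
    have h2 : LinearMap.range N ≤ LinearMap.range (N * N) := by
      conv_lhs => rw [hB']
      exact hT
    have hk : ∀ i, LinearMap.range N ≤ LinearMap.range (N ^ (i + 1)) := by
      intro i
      induction i with
      | zero => rw [zero_add, pow_one]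
      | succ i ih =>
        refine h2.trans ?_
        rw [pow_succ' N (i + 1), End.mul_eq_comp, End.mul_eq_comp, LinearMap.range_comp,
          LinearMap.range_comp]
        exact Submodule.map_mono ih
    have := hk (s - 1)
    rw [Nat.sub_add_cancel hs1, hs, LinearMap.range_zero, le_bot_iff] at this
    exact hAne (LinearMap.range_eq_bot.1 this)
  have hd : finrank k W = s := by
    obtain ⟨v, hv⟩ : ∃ v, (N ^ (s - 1)) v ≠ 0 := by
      by_contra h
      push Not at h
      exact hmin (s - 1) (by omega) (LinearMap.ext fun v => by simpa using h v)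
    have hpow : ∀ i j w, (N ^ i) ((N ^ j) w) = (N ^ (i + j)) w := fun i j w => by
      rw [pow_add, End.mul_apply]
    have hz : ∀ i, s ≤ i → ∀ w, (N ^ i) w = 0 := fun i hi w => by
      rw [← Nat.add_sub_cancel' hi, pow_add, hs, zero_mul, LinearMap.zero_apply]
    obtain ⟨φ, hφ⟩ : ∃ φ : W →ₗ[k] k, φ ((N ^ (s - 1)) v) = 1 := by
      obtain ⟨φ, hφ⟩ := Module.Projective.exists_dual_ne_zero k hv
      exact ⟨(φ ((N ^ (s - 1)) v))⁻¹ • φ, by simp [hφ]⟩
    let E : End k W :=
      ∑ i ∈ Finset.range s, (φ.comp (N ^ (s - 1 - i))).smulRight ((N ^ i) v)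
    have hEapp : ∀ w, E w = ∑ i ∈ Finset.range s, φ ((N ^ (s - 1 - i)) w) • (N ^ i) v := fun w => by
      simp [E]
    have hEN : D.T * E = E * D.T := by
      suffices h : N * E = E * N by
        rw [hN, sub_mul, mul_sub, one_mul, mul_one, sub_left_inj] at h
        exact h
      refine LinearMap.ext fun w => ?_
      rw [End.mul_apply, End.mul_apply, hEapp, hEapp, map_sum]
      obtain ⟨r, hr⟩ : ∃ r, s = r + 1 := ⟨s - 1, by omega⟩
      subst hr
      rw [Finset.sum_range_succ, Finset.sum_range_succ']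
      congr 1
      · refine Finset.sum_congr rfl fun i hi => ?_
        rw [map_smul, ← End.mul_apply, ← pow_succ' N, ← End.mul_apply (N ^ _) N,
          ← pow_succ N]
        congr 3
        have := Finset.mem_range.1 hi
        exact congrArg (N ^ ·) (by omega)
      · rw [map_smul, ← End.mul_apply, ← pow_succ' N, hz (r + 1) le_rfl, smul_zero,
          ← End.mul_apply (N ^ _) N, ← pow_succ N, hz _ (by omega), map_zero, zero_smul]
    obtain ⟨c, B', hB'⟩ := hcent E hEN
    set Sg := ∑ i ∈ Finset.range D.m, D.T ^ i * B' * T' ^ i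
    have hT : LinearMap.range Sg ≤ LinearMap.range N := by
      refine (hrg B').trans ?_
      rw [show D.m - s = 1 by omega, pow_one]
    have hv' : v ∉ LinearMap.range N := by
      rintro ⟨w, rfl⟩
      rw [← End.mul_apply, ← pow_succ, hz _ (by omega)] at hv
      exact hv rfl
    have hc1 : c = 1 := by
      by_contra hc
      apply hv'
      have h1 : E v = c • v + Sg v := by
        conv_lhs => rw [hB']
        rfl
      obtain ⟨r, hr⟩ : ∃ r, s = r + 1 := ⟨s - 1, by omega⟩
      rw [hEapp, hr, Finset.sum_range_succ'] at h1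
      have hr' : s - 1 = r := by omega
      rw [hr'] at hφ
      simp only [Nat.add_sub_cancel, Nat.sub_zero, hφ, pow_zero, End.one_apply, one_smul] at h1
      have h3 : ∀ i, (N ^ (i + 1)) v ∈ LinearMap.range N := fun i => by
        rw [pow_succ' N, End.mul_apply]; exact LinearMap.mem_range_self _ _
      have h2 : (1 - c) • v ∈ LinearMap.range N := by
        rw [sub_smul, one_smul]
        have : v - c • v = Sg v - ∑ i ∈ Finset.range r, φ ((N ^ (r - (i + 1))) v) • (N ^ (i + 1)) v := by
          rw [eq_sub_iff_add_eq, sub_add_eq_add_sub, sub_eq_iff_eq_add, add_comm v, h1]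
          abel
        rw [this]
        exact sub_mem (hT (LinearMap.mem_range_self _ _))
          (Submodule.sum_mem _ fun i _ => Submodule.smul_mem _ _ (h3 i))
      exact (Submodule.smul_mem_iff _ (sub_ne_zero.2 (Ne.symm hc))).1 h2
    set Sp := Submodule.span k (Set.range fun i : Fin s => (N ^ (i : ℕ)) v)
    have hWN : ∀ w ∈ Sp, N w ∈ Sp := by
      intro w hw
      have : Sp ≤ Sp.comap N := by
        refine Submodule.span_le.2 ?_
        rintro _ ⟨i, rfl⟩
        show N ((N ^ (i : ℕ)) v) ∈ Sp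
        rw [← End.mul_apply, ← pow_succ']
        by_cases hi : (i : ℕ) + 1 < s
        · exact Submodule.subset_span ⟨⟨_, hi⟩, rfl⟩
        · rw [hz _ (by omega)]; exact zero_mem _
      exact this hw
    have hdec : ∀ w, ∃ u ∈ Sp, ∃ y, w = u + N y := by
      intro w
      obtain ⟨y, hy⟩ := hT (LinearMap.mem_range_self Sg w)
      refine ⟨E w, ?_, -y, ?_⟩
      · rw [hEapp]
        exact Submodule.sum_mem _ fun i hi => Submodule.smul_mem _ _
          (Submodule.subset_span ⟨⟨i, Finset.mem_range.1 hi⟩, rfl⟩)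
      · have h1 : E w = c • w + Sg w := by
          conv_lhs => rw [hB']
          rfl
        rw [h1, hc1, one_smul, map_neg, hy]
        abel
    have hk : ∀ l w, ∃ u ∈ Sp, ∃ y, w = u + (N ^ l) y := by
      intro l
      induction l with
      | zero => exact fun w => ⟨0, zero_mem _, w, by simp⟩
      | succ l ih =>
        intro w
        obtain ⟨u, hu, y, rfl⟩ := ih w
        obtain ⟨u', hu', y', rfl⟩ := hdec y
        refine ⟨u + (N ^ l) u', add_mem hu ?_, y', by
          rw [map_add, pow_succ, End.mul_apply]; abel⟩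
        clear * - hu' hWN
        induction l with
        | zero => simpa using hu'
        | succ l ih => rw [pow_succ', End.mul_apply]; exact hWN _ ih
    have hWtop : Sp = ⊤ := eq_top_iff.2 fun w _ => by
      obtain ⟨u, hu, y, rfl⟩ := hk s w
      rw [hz s le_rfl, add_zero]
      exact hu
    refine le_antisymm ?_ ?_
    · rw [← finrank_top k W, ← hWtop]
      exact (finrank_range_le_card _).trans_eq (Fintype.card_fin s)
    · by_contra hlt
      push Not at hlt
      -- powers of a nilpotent operator stop at the dimension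
      have : N ^ finrank k W = 0 := LinearMap.ker_eq_top.1 (top_le_iff.1 (by
        have h := End.ker_pow_le_ker_pow_finrank N s
        rwa [hs, LinearMap.ker_zero] at h))
      exact hmin _ hlt this
  refine ⟨by omega, hindex, hmin _ (by omega)⟩

/-- The commutant commutes with `T`, and the radical has index `(m - 1) ^ 2`. -/
theorem commutant_fixed_two [IsAlgClosed k] [FiniteDimensional k W] [Nontrivial W] [CharP k 2]
    (hQ : (Fintype.card Q : k) ≠ 0) (hR : D.RadScalar) (hne : D.R ≠ ⊤) (hfree : D.Free)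
    {μ : ℕ} (hm : D.m = 2 ^ μ) (hnorm : ∑ i ∈ Finset.range D.m, D.T ^ i = 0) :
    D.R.index = (D.m - 1) ^ 2 ∧
      ∀ f : End k W, (∀ x, D.E x * f = f * D.E x) → D.T * f = f * D.T := by
  classical
  haveI : Fact (Nat.Prime 2) := ⟨Nat.prime_two⟩
  have hex : ∃ d, ∃ U : Submodule k W, U ≠ ⊥ ∧ (∀ x, ∀ w ∈ U, D.E x w ∈ U) ∧
      (∀ w ∈ U, D.T w ∈ U) ∧ finrank k U = d :=
    ⟨_, ⊤, top_ne_bot, fun _ _ _ => trivial, fun _ _ => trivial, rfl⟩
  obtain ⟨U, hU0, hUE, hUT, hd⟩ := Nat.find_spec hex
  haveI : Nontrivial U := Submodule.nontrivial_iff_ne_bot.mpr hU0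
  set D' := D.restrictData U hUE hUT with hD'
  have hTpow : ∀ (i : ℕ) (w : U), (((D'.T ^ i) w : U) : W) = (D.T ^ i) w := by
    intro i
    induction i with
    | zero => intro w; rfl
    | succ i ih => intro w; rw [pow_succ', pow_succ', End.mul_apply, End.mul_apply, ← ih]; rfl
  have hRsc : D'.RadScalar := fun r hr => by
    obtain ⟨c, hc⟩ := hR r hr
    exact ⟨c, LinearMap.ext fun w => Subtype.ext (LinearMap.congr_fun hc (w : W))⟩
  have hnorm' : ∑ i ∈ Finset.range D'.m, D'.T ^ i = 0 := LinearMap.ext fun w => Subtype.ext (by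
    rw [LinearMap.sum_apply, AddSubmonoidClass.coe_finsetSum]
    simp only [hTpow]
    have := LinearMap.congr_fun hnorm (w : W)
    rwa [LinearMap.sum_apply] at this)
  have hirr : Irr D' := irr_of_minimal D' hQ hRsc hm fun J hJE hJT => by
    by_cases h : J = ⊥
    · exact Or.inl h
    · refine Or.inr (Submodule.map_injective_of_injective U.injective_subtype
        ((Submodule.eq_of_le_of_finrank_le (U.map_subtype_le J) (hd ▸ Nat.find_le
          ⟨J.map U.subtype, fun e => h (Submodule.map_injective_of_injective U.injective_subtype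
            (e.trans (Submodule.map_bot _).symm)),
            by rintro x _ ⟨w, hw, rfl⟩; exact ⟨_, hJE x w hw, rfl⟩,
            by rintro _ ⟨w, hw, rfl⟩; exact ⟨_, hJT w hw, rfl⟩, rfl⟩)).trans
          (Submodule.map_subtype_top U).symm))
  obtain ⟨h1, h2, h3⟩ := exceptional_two D' hQ hRsc hne hfree hm hnorm' hirr
  change finrank k U + 1 = D.m at h1
  change D.R.index = _ at h2
  refine ⟨by rw [h2, ← h1, Nat.add_sub_cancel], fun f hf => ?_⟩
  set A : End k U := D'.T with hA
  change (A - 1) ^ (D.m - 2) ≠ 0 at h3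
  -- the equivariant maps intertwine `A` and `T`
  have key : ∀ g : U →ₗ[k] W, (∀ x (w : U), g (D'.E x w) = D.E x (g w)) →
      ∀ w : U, D.T (g w) = g (A w) := by
    let M : Submodule k (U →ₗ[k] W) :=
      { carrier := {g | ∀ x (w : U), g (D'.E x w) = D.E x (g w)}
        zero_mem' := fun x w => by simp
        add_mem' := fun {a b} ha hb x w => by simp [ha x w, hb x w]
        smul_mem' := fun c a ha x w => by simp [ha x w] }
    let Ai := A ^ (D.m - 1)
    have hAi : A * Ai = 1 := D'.T_mul_pred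
    have hiA : Ai * A = 1 := D'.pred_mul_T
    let σ₀ : End k (U →ₗ[k] W) :=
      (LinearMap.lcomp k W Ai) * (LinearMap.llcomp k U W W D.T)
    have hσM : ∀ g ∈ M, σ₀ g ∈ M := by
      intro g hg x w
      show D.T (g (Ai (D'.E x w))) = D.E x (D.T (g (Ai w)))
      have h : Ai (D'.E x w) = D'.E (D.φ.symm x) (Ai w) := by
        have h4 : A (D'.E (D.φ.symm x) (Ai w)) = D'.E x w := by
          rw [← End.mul_apply, D'.hTE, End.mul_apply, ← End.mul_apply A, hAi, End.one_apply]
          exact congrArg (fun y => D'.E y w) (MulEquiv.apply_symm_apply D.φ x)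
        rw [← h4, ← End.mul_apply, hiA, End.one_apply]
      rw [h, hg, ← End.mul_apply D.T, D.hTE, MulEquiv.apply_symm_apply]
      rfl
    set σ : End k M := σ₀.restrict hσM with hσ
    have hσapp : ∀ (g : M) (w : U), ((σ g : M) : U →ₗ[k] W) (A w) = D.T ((g : U →ₗ[k] W) w) := by
      intro g w
      show D.T ((g : U →ₗ[k] W) (Ai (A w))) = _
      rw [← End.mul_apply Ai, hiA, End.one_apply]
    have hσpow : ∀ i (g : M) (w : U), (((σ ^ i) g : M) : U →ₗ[k] W) ((A ^ i) w) =
        (D.T ^ i) ((g : U →ₗ[k] W) w) := by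
      intro i
      induction i with
      | zero => intro g w; rfl
      | succ i ih =>
        intro g w
        rw [pow_succ' σ, pow_succ' A, pow_succ' D.T, End.mul_apply, End.mul_apply, End.mul_apply,
          hσapp, ih]
    suffices hσ1 : ∀ g : M, σ g = g by
      intro g hg w
      have h := hσapp ⟨g, hg⟩ w
      rw [hσ1] at h
      exact h.symm
    intro g
    by_contra hg
    haveI : Nontrivial M := ⟨⟨σ g, g, hg⟩⟩
    haveI : CharP (End k M) 2 := charP_of_injective_algebraMap' k 2
    have hσm : (σ - (1 : End k M)) ^ D.m = 0 := by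
      have h1 : σ ^ D.m = 1 := LinearMap.ext fun g => Subtype.ext (LinearMap.ext fun w => by
        have h := hσpow D.m g w
        rw [show A ^ D.m = 1 from D'.hT, D.hT] at h
        exact h)
      rw [hm, sub_pow_char_pow_of_commute (R := Module.End k M) (x := σ) (y := 1) 2 μ
        (Commute.one_right (M := Module.End k M) σ), ← hm, h1, one_pow, sub_self]
    -- a pair at the top of a chain
    have hex2 : ∃ l, ((σ - (1 : End k M)) ^ (l + 1)) g = 0 := ⟨D.m - 1, by
      rw [Nat.sub_add_cancel D.hm, hσm, LinearMap.zero_apply]⟩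
    obtain ⟨l, hl0, hlmin⟩ : ∃ l, ((σ - (1 : End k M)) ^ (l + 1)) g = 0 ∧
        ∀ i < l, ((σ - (1 : End k M)) ^ (i + 1)) g ≠ 0 :=
      ⟨_, Nat.find_spec hex2, fun i hi => Nat.find_min hex2 hi⟩
    obtain ⟨l, rfl⟩ : ∃ l', l = l' + 1 := Nat.exists_eq_succ_of_ne_zero (by
      rintro rfl
      rw [zero_add, pow_one, LinearMap.sub_apply, End.one_apply, sub_eq_zero] at hl0
      exact hg hl0)
    set g₁ := ((σ - (1 : End k M)) ^ l) g with hg₁
    set g₀ := (σ - (1 : End k M)) g₁ with hg₀
    have hg00 : g₀ ≠ 0 := by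
      rw [hg₀, hg₁, ← End.mul_apply, ← pow_succ']
      exact hlmin l (lt_add_one l)
    have hσ0 : σ g₀ = g₀ := by
      rw [← sub_eq_zero]
      show (σ - (1 : End k M)) g₀ = 0
      rw [hg₀, hg₁, ← End.mul_apply, ← End.mul_apply, mul_assoc, ← pow_succ', ← pow_succ']
      exact hl0
    have hσ1 : σ g₁ = g₁ + g₀ := by
      rw [hg₀, LinearMap.sub_apply, End.one_apply, add_sub_cancel]
    have hpowi : ∀ i : ℕ, (σ ^ i) g₁ = g₁ + (i : k) • g₀ := by
      intro i
      induction i with
      | zero => simp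
      | succ i ih =>
        rw [pow_succ', End.mul_apply, ih, map_add, map_smul, hσ1, hσ0, Nat.cast_succ, add_smul,
          one_smul]
        abel
    have hker : ∀ w : U, (g₀ : U →ₗ[k] W) ((A * (A - 1) ^ (D.m - 2)) w) = 0 := by
      intro w
      have hμ : 0 < μ := by
        rcases Nat.eq_zero_or_pos μ with e | e
        · rw [e, pow_zero] at hm
          have : 0 < finrank k U := Module.finrank_pos
          omega
        · exact e
      have h : ∑ i ∈ Finset.range D.m, (D.T ^ i) ((g₁ : U →ₗ[k] W) w) = 0 := by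
        rw [← LinearMap.sum_apply, hnorm, LinearMap.zero_apply]
      simp only [← hσpow, hpowi, Submodule.coe_add, Submodule.coe_smul, LinearMap.add_apply,
        LinearMap.smul_apply, Finset.sum_add_distrib, ← map_sum, ← LinearMap.sum_apply,
        ← map_smul] at h
      rw [show ∑ i ∈ Finset.range D.m, A ^ i = 0 from hnorm', LinearMap.zero_apply, map_zero,
        zero_add] at h
      rw [hm] at h ⊢
      rw [← sum_natCast_smul_pow μ hμ A, LinearMap.sum_apply]
      simpa only [LinearMap.smul_apply, map_smul] using h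
    have hAne : A * (A - 1) ^ (D.m - 2) ≠ 0 := fun e => h3 (by
      have h := congrArg (Ai * ·) e
      simpa only [← mul_assoc, hiA, one_mul, mul_zero] using h)
    rcases hirr (LinearMap.ker (g₀ : U →ₗ[k] W)) (fun x w hw => by
        rw [LinearMap.mem_ker] at hw ⊢
        rw [g₀.2 x w, hw, map_zero]) with e | e
    · refine hAne (LinearMap.ext fun w => ?_)
      exact (Submodule.mem_bot k).mp (e ▸ hker w)
    · exact hg00 (Subtype.ext (LinearMap.ker_eq_top.mp e))
  -- the images span
  let M' := {g : U →ₗ[k] W // ∀ x (w : U), g (D'.E x w) = D.E x (g w)}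
  set S : Submodule k W := ⨆ g : M', LinearMap.range g.1 with hS
  have hStop : S = ⊤ := by
    by_contra hS'
    have hSE : ∀ x, ∀ w ∈ S, D.E x w ∈ S := by
      intro x w hw
      have : S ≤ S.comap (D.E x) := iSup_le fun g => by
        rintro _ ⟨u, rfl⟩
        rw [Submodule.mem_comap, ← g.2 x u]
        exact Submodule.mem_iSup_of_mem g (LinearMap.mem_range_self _ _)
      exact this hw
    obtain ⟨C, hC⟩ := S.exists_isCompl
    set π := D.P 1 (S.subtype.comp (S.linearProjOfIsCompl C hC)) with hπ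
    have hπE : ∀ x, D.E x * π = π * D.E x := fun x => by
      have := D.inPart_P 1 (S.subtype.comp (S.linearProjOfIsCompl C hC)) x
      rwa [Data.β_one_right, one_smul] at this
    have hπS : ∀ w, π w ∈ S := fun w => by
      rw [hπ, Data.P_apply, LinearMap.smul_apply, LinearMap.sum_apply]
      refine S.smul_mem _ (Submodule.sum_mem _ fun x _ => ?_)
      rw [LinearMap.smul_apply, End.mul_apply, End.mul_apply]
      exact S.smul_mem _ (hSE _ _ (Submodule.coe_mem _))
    have hπid : ∀ w ∈ S, π w = w := fun w hw => by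
      rw [hπ, Data.P_apply, LinearMap.smul_apply, LinearMap.sum_apply]
      have h : ∀ x, (D.β 1 x • (D.E x * S.subtype.comp (S.linearProjOfIsCompl C hC) * D.E x⁻¹)) w =
          w := fun x => by
        rw [Data.β_one_left, one_smul, End.mul_apply, End.mul_apply]
        rw [show (S.subtype.comp (S.linearProjOfIsCompl C hC)) (D.E x⁻¹ w) = D.E x⁻¹ w from
          congrArg Subtype.val (Submodule.linearProjOfIsCompl_apply_left hC ⟨_, hSE _ _ hw⟩)]
        rw [← End.mul_apply, D.E_mul_inv, End.one_apply]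
      simp only [h, Finset.sum_const, Finset.card_univ, ← Nat.cast_smul_eq_nsmul k, smul_smul,
        inv_mul_cancel₀ hQ, one_smul]
    have hker : LinearMap.ker π ≠ ⊥ := by
      intro e
      refine hS' (eq_top_iff.mpr fun w _ => ?_)
      have h0 : π w - w ∈ LinearMap.ker π := by
        rw [LinearMap.mem_ker, map_sub, hπid _ (hπS w), sub_self]
      rw [e, Submodule.mem_bot, sub_eq_zero] at h0
      exact h0 ▸ hπS w
    obtain ⟨g, hgE, hgU, w, hw, hw0⟩ := exists_equivariant D hQ hR U (LinearMap.ker π) hU0 hker hUE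
      (fun x v hv => by
        rw [LinearMap.mem_ker] at hv ⊢
        rw [← End.mul_apply, ← hπE, End.mul_apply, hv, map_zero])
    apply hw0
    have h1 : g w ∈ S := Submodule.mem_iSup_of_mem (⟨g.comp U.subtype, fun x u => by
      show g (D.E x u) = D.E x (g u)
      rw [← End.mul_apply, ← hgE]; rfl⟩ : M') ⟨⟨w, hw⟩, rfl⟩
    rw [← hπid _ h1]
    exact hgU w hw
  refine LinearMap.ext fun v => ?_
  have hle : S ≤ LinearMap.eqLocus (D.T * f) (f * D.T) := iSup_le fun g => by
    rintro _ ⟨u, rfl⟩
    show D.T (f (g.1 u)) = f (D.T (g.1 u))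
    rw [key g.1 g.2, show f (g.1 (A u)) = (f.comp g.1) (A u) from rfl,
      ← key (f.comp g.1) (fun x w => by
        show f (g.1 (D'.E x w)) = D.E x (f (g.1 w))
        rw [g.2, ← End.mul_apply, ← hf]; rfl)]
    rfl
  exact hle (hStop ▸ Submodule.mem_top)

end Cfsg.Agent.Lib.Solvable.GrossLength
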