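import Cfsg.Agent.Lib.Solvable.GrossLength.PlaneCore
import Cfsg.Agent.Lib.Solvable.GrossLength.ClassTwo
import Cfsg.Agent.Lib.Solvable.FPF.Basic
import Cfsg.Prelude.Def_Local

/-!
In a solvable linear group over characteristic two with trivial `O₂`, the involution of an element of
order `2 ^ n` and norm zero lies in `O_{2',2}`.
-/

set_option autoImplicit false

namespace Cfsg.Agent.Lib.Solvable.GrossLength

open Module Cfsg.Agent.Lib
open scoped commutatorElement

universe u

variable {H : Type u} [Group H] [Finite H] {k : Type*} [Field k] [IsAlgClosed k] [CharP k 2]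
  {W : Type*} [AddCommGroup W] [Module k W] [FiniteDimensional k W]

omit [IsAlgClosed k] in
theorem natCast_ne_zero_two {q : ℕ} (hq : q.Prime) (hq2 : q ≠ 2) : (q : k) ≠ 0 := fun h =>
  hq2 (((Nat.prime_dvd_prime_iff_eq Nat.prime_two hq).mp ((CharP.cast_eq_zero_iff k 2 q).mp h))).symm

/-- The norm-zero hypothesis. -/
structure NormZero (ρ : H →* End k W) (n : ℕ) (x : H) : Prop where
  hn : 0 < n
  hx : x ^ 2 ^ n = 1
  hnorm : ∑ i ∈ Finset.range (2 ^ n), ρ x ^ i = 0

omit [Finite H] [IsAlgClosed k] [CharP k 2] [FiniteDimensional k W] in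
theorem NormZero.conj {ρ : H →* End k W} {n : ℕ} {x : H} (h : NormZero ρ n x) (g : H) :
    NormZero ρ n (g * x * g⁻¹) := by
  refine ⟨h.hn, by rw [conj_pow, h.hx, mul_one, mul_inv_cancel], ?_⟩
  have e : ∀ i : ℕ, ρ (g * x * g⁻¹) ^ i = ρ g * ρ x ^ i * ρ g⁻¹ := fun i => by
    rw [← map_pow, conj_pow, map_mul, map_mul, map_pow]
  simp only [e, ← Finset.sum_mul, ← Finset.mul_sum, h.hnorm, mul_zero, zero_mul]

/-- The involution centralises every invariant abelian subgroup of odd order. -/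
theorem NormZero.centralizes_abelian {ρ : H →* End k W} (hρ : Function.Injective ρ) {n : ℕ} {x : H}
    (h : NormZero ρ n x) (A : Subgroup H) [A.Normal] (hA : ∀ a ∈ A, ∀ b ∈ A, a * b = b * a)
    (hodd : (Nat.card A : k) ≠ 0) : ∀ a ∈ A, x ^ 2 ^ (n - 1) * a = a * x ^ 2 ^ (n - 1) := by
  classical
  intro a ha
  by_contra hne
  set y := x ^ 2 ^ (n - 1) with hy
  set w := y * a * y⁻¹ * a⁻¹ with hw
  have hwA : w ∈ A := mul_mem (Subgroup.Normal.conj_mem inferInstance a ha y) (inv_mem ha)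
  have hw1 : ρ w ≠ 1 := fun e => hne (by
    have h1 := hρ (e.trans (map_one ρ).symm)
    rwa [hw, mul_inv_eq_one, mul_inv_eq_iff_eq_mul] at h1)
  obtain ⟨χ, v, hv0, hv, hχ⟩ := Solvable.FPF.exists_weight ρ A (fun a ha b hb => hA a ha b hb) hodd hwA hw1
  let θA : MulAut A := MulAut.conjNormal x
  have hθv : ∀ (i : ℕ) (b : A), (((θA ^ i) b : A) : H) = x ^ i * b * (x ^ i)⁻¹ := fun i b => by
    rw [show θA ^ i = MulAut.conjNormal (x ^ i) from (map_pow _ x i).symm, MulAut.conjNormal_apply]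
  obtain ⟨N, hN, hNd, hNfix, hNmin⟩ := ShultGross.exists_period θA χ (pow_pos two_pos n)
    (MulEquiv.ext fun b => Subtype.ext (by rw [hθv, h.hx]; simp))
  obtain ⟨j, hj, rfl⟩ := (Nat.dvd_prime_pow Nat.prime_two).mp hNd
  rcases eq_or_lt_of_le hj with rfl | hjn
  · refine orbit_sum_ne (fun b : A => ρ (b : H)) (ρ x) θA (fun b => ?_) χ v hv0 hv _ hN hNmin ?_
    · rw [← map_mul, ← map_mul, MulAut.conjNormal_apply, inv_mul_cancel_right]
    · rw [← LinearMap.sum_apply, h.hnorm, LinearMap.zero_apply]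
  · have hfix : ∀ (c : ℕ) (b : A), χ ((θA ^ (2 ^ j * c)) b) = χ b := by
      intro c
      induction c with
      | zero => intro b; rfl
      | succ c ih => intro b; rw [Nat.mul_succ, pow_add, MulAut.mul_apply, ih, hNfix]
    obtain ⟨c, hc⟩ : 2 ^ j ∣ 2 ^ (n - 1) := pow_dvd_pow 2 (by omega)
    apply hχ
    have hmul : χ ⟨w, hwA⟩ * χ ⟨a, ha⟩ = χ ((θA ^ 2 ^ (n - 1)) ⟨a, ha⟩) := by
      refine smul_left_injective k hv0 ?_
      show (χ ⟨w, hwA⟩ * χ ⟨a, ha⟩) • v = χ ((θA ^ 2 ^ (n - 1)) ⟨a, ha⟩) • v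
      rw [← hv, hθv, ← hy, show y * a * y⁻¹ = w * a by rw [hw, inv_mul_cancel_right], map_mul,
        End.mul_apply, hv ⟨a, ha⟩, map_smul, hv ⟨w, hwA⟩, smul_smul, mul_comm]
    rw [hc, hfix] at hmul
    refine (mul_eq_right₀ fun e => hv0 ?_).mp hmul
    have h1 : ρ (a : H)⁻¹ (ρ a v) = v := by
      rw [← End.mul_apply, ← map_mul, inv_mul_cancel, map_one]; rfl
    rwa [hv ⟨a, ha⟩, e, zero_smul, map_zero, eq_comm] at h1

section Piece

variable (D : Subgroup H) [D.Normal]

/-- The automorphism of `D` given by conjugation. -/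
def cA : H →* MulAut D := MulAut.conjNormal

omit [Finite H] in
theorem cA_center (g : H) {z : D} (hz : z ∈ Subgroup.center D) : cA D g z ∈ Subgroup.center D :=
  Subgroup.mem_center_iff.mpr fun d => by
    have := congrArg (cA D g) (Subgroup.mem_center_iff.mp hz ((cA D g).symm d))
    simpa using this

/-- The stabiliser of a central weight. -/
def weightStab (χ : Subgroup.center D → k) : Subgroup H where
  carrier := {g | ∀ z : Subgroup.center D, χ ⟨cA D g z, cA_center D g z.2⟩ = χ z}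
  one_mem' := fun z => congrArg χ (Subtype.ext (by
    show cA D (1 : H) (z : D) = z
    rw [map_one]; rfl))
  mul_mem' := fun {a b} ha hb z => by
    have h1 := ha ⟨cA D b z, cA_center D b z.2⟩
    rw [hb] at h1
    rw [← h1]
    exact congrArg χ (Subtype.ext (by
      show cA D (a * b) (z : D) = cA D a (cA D b z)
      rw [map_mul]; rfl))
  inv_mem' := fun {a} ha z => by
    have h1 := ha ⟨cA D a⁻¹ z, cA_center D a⁻¹ z.2⟩
    rw [← h1]
    exact congrArg χ (Subtype.ext (by
      show cA D a (cA D a⁻¹ z) = z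
      rw [← MulAut.mul_apply, ← map_mul, mul_inv_cancel, map_one]; rfl))

set_option maxHeartbeats 1000000 in
/-- The piece of `D` below a central weight: `q`-by-`2` modulo the kernel. -/
theorem piece {q : ℕ} [Fact q.Prime] (hq2 : q ≠ 2) (hs : Group.IsSolvable H) (ρ : H →* End k W)
    {n : ℕ} {x₀ : H} (hx₀ : NormZero ρ n x₀) (hD : IsPGroup q D)
    (hcomm : commutator D ≤ Subgroup.center D) (hpw : ∀ d : D, d ^ q ∈ Subgroup.center D)
    (hcen : ∀ g : H, ∀ z : D, z ∈ Subgroup.center D → cA D (g * x₀ ^ 2 ^ (n - 1) * g⁻¹) z = z)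
    (χ : Subgroup.center D → k) (w0 : W) (hw00 : w0 ≠ 0)
    (hw0 : ∀ z : Subgroup.center D, ρ ((z : D) : H) w0 = χ z • w0) :
    ∃ (I N : Subgroup H), N ≤ weightStab D χ ∧
      (∀ g : H, g * x₀ ^ 2 ^ (n - 1) * g⁻¹ ∈ I) ∧
      (∀ g ∈ weightStab D χ, ∀ a ∈ N, g * a * g⁻¹ ∈ N) ∧
      (∀ a ∈ I, a ^ 2 ^ Nat.card H ∈ N) ∧
      ∀ t ∈ N, t * t = 1 → ∀ d e : D, ∀ h : ⁅cA D t d * d⁻¹, e⁆ ∈ Subgroup.center D,
        χ ⟨⁅cA D t d * d⁻¹, e⁆, h⟩ = 1 := by
  classical
  have hqk : (q : k) ≠ 0 := natCast_ne_zero_two Fact.out hq2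
  have happly : ∀ g, (∀ z : D, z ∈ Subgroup.center D → cA D ((g * x₀ * g⁻¹) ^ 2 ^ (n - 1)) z = z) := by
    intro g z hz
    rw [conj_pow]
    exact hcen g z hz
  have hweight := fun g => class_two_weight hx₀.hn (Fact.out : q.Prime) hq2 hqk hD (ρ.comp D.subtype)
    (ρ (g * x₀ * g⁻¹)) (by rw [← map_pow, (hx₀.conj g).hx, map_one]) (hx₀.conj g).hnorm
    (cA D (g * x₀ * g⁻¹)) (by rw [← map_pow, (hx₀.conj g).hx, map_one])
    (fun d => by
      show ρ (g * x₀ * g⁻¹) * ρ (d : H) = ρ ((cA D (g * x₀ * g⁻¹) d : D) : H) * ρ (g * x₀ * g⁻¹)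
      rw [← map_mul, ← map_mul, cA, MulAut.conjNormal_apply, inv_mul_cancel_right])
    hcomm (fun z hz => by rw [← map_pow]; exact happly g z hz) χ w0 hw00 hw0
  obtain ⟨R, -, -, hR, hRn, hZR, -⟩ := hweight 1
  haveI := hRn
  set S := weightStab D χ
  have hRinv : ∀ g ∈ S, ∀ d ∈ R, cA D g d ∈ R := by
    intro g hg d hd
    rw [hR] at hd ⊢
    intro e h
    have e1 : cA D g ⁅d, (cA D g).symm e⁆ = ⁅cA D g d, e⁆ := by
      rw [map_commutatorElement, MulEquiv.apply_symm_apply]
    have h0 : ⁅d, (cA D g).symm e⁆ ∈ Subgroup.center D :=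
      hcomm (Subgroup.commutator_mem_commutator (Subgroup.mem_top _) (Subgroup.mem_top _))
    rw [← hd _ h0, ← hg ⟨_, h0⟩]
    exact congrArg χ (Subtype.ext e1.symm)
  let M := D ⧸ R
  letI : CommGroup M := { (inferInstance : Group M) with
    mul_comm := fun u v => by
      induction u using QuotientGroup.induction_on with
      | H u => induction v using QuotientGroup.induction_on with
        | H v =>
          show ((u * v : D) : D ⧸ R) = ((v * u : D) : D ⧸ R)
          refine QuotientGroup.eq.mpr (hZR ?_)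
          have h := hcomm (Subgroup.commutator_mem_commutator (Subgroup.mem_top v⁻¹) (Subgroup.mem_top u⁻¹))
          simpa [commutatorElement_def, mul_assoc] using h }
  have hM : ∀ v : M, v ^ q = 1 := fun v => by
    induction v using QuotientGroup.induction_on with
    | H v => exact (QuotientGroup.eq_one_iff _).mpr (hZR (hpw v))
  haveI : Module (ZMod q) (Additive M) :=
    AddCommGroup.zmodModule fun v => Additive.toMul.injective (hM v.toMul)
  let ψ : S →* MulAut M := MonoidHom.mk'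
    (fun g => Solvable.FPF.quotAut (cA D g) R fun d hd => hRinv g g.2 d hd) fun a b =>
      MulEquiv.ext fun v => by
        induction v using QuotientGroup.induction_on with
        | H v => show ((cA D (a * b : S) v : D) : M) = _; rw [Subgroup.coe_mul, map_mul]; rfl
  have hψ : ∀ (g : S) (d : D), ψ g (d : M) = ((cA D g d : D) : M) := fun g d => rfl
  let L : MulAut M →* End (ZMod q) (Additive M) :=
    { toFun := fun a => (MonoidHom.toAdditive (a : M →* M)).toZModLinearMap q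
      map_one' := LinearMap.ext fun _ => rfl
      map_mul' := fun _ _ => LinearMap.ext fun _ => rfl }
  have hLinj : Function.Injective L := fun a b hab => MulEquiv.ext fun v =>
    Additive.ofMul.injective (LinearMap.congr_fun hab (Additive.ofMul v))
  set K := ψ.ker
  let σ : S ⧸ K →* End (ZMod q) (Additive M) := L.comp (QuotientGroup.kerLift ψ)
  have hσ : Function.Injective σ := hLinj.comp (QuotientGroup.kerLift_injective ψ)
  have hsol : Group.IsSolvable (S ⧸ K) :=
    Coprime.isSolvable_of_surjective' (QuotientGroup.mk'_surjective _) (inferInstance : Group.IsSolvable S)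
  set π := QuotientGroup.mk' K
  let I : Subgroup H := ((oqTwo q (S ⧸ K)).comap π).map S.subtype
  let N : Subgroup H := ((Cfsg.pCore q (S ⧸ K)).comap π).map S.subtype
  refine ⟨I, N, Subgroup.map_subtype_le _, fun g => ?_, ?_, ?_, ?_⟩
  · obtain ⟨R', j, m, hR', hR'n, -, hfixχ, -, hm1, hjm, hcase⟩ := hweight g
    obtain rfl : R' = R := by ext d; rw [hR', hR]
    set x := g * x₀ * g⁻¹ with hx
    have hxy : g * x₀ ^ 2 ^ (n - 1) * g⁻¹ = x ^ 2 ^ (n - 1) := by rw [hx, conj_pow]
    rw [hxy]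
    have hφS : x ^ 2 ^ j ∈ S := fun z => by
      have e : (cA D x ^ 2 ^ j) (z : D) = cA D (x ^ 2 ^ j) z := by rw [map_pow]
      have h1 := hfixχ z (by rw [e]; exact cA_center D _ z.2)
      rw [← h1]
      exact congrArg χ (Subtype.ext e.symm)
    set φ : S := ⟨x ^ 2 ^ j, hφS⟩
    have hφy : x ^ 2 ^ (n - 1) = ((φ ^ 2 ^ (m - 1) : S) : H) := by
      rw [SubmonoidClass.coe_pow, ← pow_mul, ← pow_add]; congr 2; omega
    refine ⟨φ ^ 2 ^ (m - 1), ?_, hφy.symm⟩
    have hψy : ∀ d : D, ψ (φ ^ 2 ^ (m - 1)) (d : M) = (((cA D x ^ 2 ^ (n - 1)) d : D) : M) := fun d => by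
      rw [hψ, ← hφy, map_pow]
    rcases hcase with h1 | ⟨hqm, hm, hfix, C1, hRC1, hC1, hC1card⟩
    · show π _ ∈ oqTwo q (S ⧸ K)
      rw [show π (φ ^ 2 ^ (m - 1)) = 1 from (QuotientGroup.eq_one_iff _).mpr
        (MonoidHom.mem_ker.mpr (MulEquiv.ext fun v => by
          induction v using QuotientGroup.induction_on with
          | H d =>
            rw [hψy, MulAut.one_apply, QuotientGroup.eq_iff_div_mem, div_eq_mul_inv]
            exact h1 d))]
      exact one_mem _
    show π _ ∈ oqTwo q (S ⧸ K)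
    rw [map_pow]
    refine plane_oqTwo hm hqm _ (Additive M) rfl (S ⧸ K) hsol σ hσ (π φ) ?_ ?_ ?_
    · rw [← map_pow, show φ ^ 2 ^ m = 1 from Subtype.ext (by
        rw [SubmonoidClass.coe_pow, ← pow_mul, ← pow_add, hjm, (hx₀.conj g).hx]; rfl), map_one]
    · intro v hv
      rw [← map_pow] at hv
      obtain ⟨d, hd⟩ := QuotientGroup.mk'_surjective R' v.toMul
      obtain rfl : v = Additive.ofMul ((d : D) : M) := Additive.toMul.injective hd.symm
      have hv' : ψ (φ ^ 2 ^ (m - 1)) (d : M) = d := congrArg Additive.toMul hv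
      rw [hψy, QuotientGroup.eq_iff_div_mem, div_eq_mul_inv] at hv'
      refine Additive.toMul.injective (show ψ φ (d : M) = d from ?_)
      rw [hψ, QuotientGroup.eq_iff_div_mem, div_eq_mul_inv]
      have e : cA D (x ^ 2 ^ j) d = (cA D x ^ 2 ^ j) d := by rw [map_pow]
      show cA D (x ^ 2 ^ j) d * d⁻¹ ∈ R'
      rw [e]
      exact hfix d hv'
    · let P : Submodule (ZMod q) (Additive M) :=
        AddSubgroup.toZModSubmodule q (Subgroup.toAddSubgroup (C1.map (QuotientGroup.mk' R')))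
      refine le_trans (Submodule.finrank_mono (t := P) ?_) ?_
      · rintro _ ⟨v, rfl⟩
        obtain ⟨d, hd⟩ := QuotientGroup.mk'_surjective R' v.toMul
        obtain rfl : v = Additive.ofMul ((d : D) : M) := Additive.toMul.injective hd.symm
        rw [← map_pow]
        refine ⟨_, hC1 d, ?_⟩
        show _ = (ψ (φ ^ 2 ^ (m - 1)) (d : M)) / (d : M)
        rw [hψy, map_mul, map_inv, div_eq_mul_inv]
        rfl
      · refine (Nat.pow_le_pow_iff_right (Fact.out : q.Prime).one_lt).mp ?_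
        refine le_of_eq ?_
        have h1 : Nat.card P = q ^ finrank (ZMod q) P := by
          rw [Module.natCard_eq_pow_finrank (K := ZMod q), Nat.card_zmod]
        rw [← h1, show Nat.card P = Nat.card (C1.map (QuotientGroup.mk' R')) from Nat.card_congr
          ⟨fun v => ⟨v.1.toMul, v.2⟩, fun v => ⟨Additive.ofMul v.1, v.2⟩, fun _ => rfl, fun _ => rfl⟩]
        have h2 := Subgroup.card_mul_index (R'.subgroupOf C1)
        rw [Nat.card_congr (Subgroup.subgroupOfEquivOfLe hRC1).toEquiv, hC1card] at h2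
        have hk : ((QuotientGroup.mk' R').comp C1.subtype).ker = R'.subgroupOf C1 := by
          rw [← MonoidHom.comap_ker, QuotientGroup.ker_mk']; rfl
        have h3 : Nat.card (C1.map (QuotientGroup.mk' R')) = (R'.subgroupOf C1).index := by
          rw [← hk, Subgroup.index_ker, MonoidHom.range_comp, Subgroup.range_subtype]
        rw [h3]
        exact Nat.eq_of_mul_eq_mul_left Nat.card_pos h2
  · rintro g hg _ ⟨a, ha, rfl⟩
    refine ⟨⟨g, hg⟩ * a * ⟨g, hg⟩⁻¹, ?_, rfl⟩
    exact Subgroup.Normal.conj_mem (Subgroup.Normal.comap inferInstance π) a ha _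
  · rintro _ ⟨a, ha, rfl⟩
    obtain ⟨i, hi⟩ := exists_pow_mem_of_mem_oqTwo (q := q) (y := π a) (Subgroup.mem_comap.mp ha)
    refine ⟨a ^ 2 ^ Nat.card H, ?_, map_pow _ _ _⟩
    refine Subgroup.mem_comap.mpr ?_
    rw [map_pow]
    set b := ((π a : S ⧸ K) : (S ⧸ K) ⧸ Cfsg.pCore q (S ⧸ K)) with hb
    have h1 : b ^ 2 ^ Nat.card H = 1 := by
      have h2 : orderOf b ∣ 2 ^ i := orderOf_dvd_of_pow_eq_one (by
        rw [hb, ← QuotientGroup.mk_pow]; exact (QuotientGroup.eq_one_iff _).mpr hi)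
      obtain ⟨l, -, hl⟩ := (Nat.dvd_prime_pow Nat.prime_two).mp h2
      refine orderOf_dvd_iff_pow_eq_one.mp (hl ▸ pow_dvd_pow 2 ?_)
      have h3 : orderOf b ≤ Nat.card H := by
        refine le_trans (Nat.le_of_dvd Nat.card_pos (orderOf_dvd_natCard b)) ?_
        refine le_trans (Nat.card_le_card_of_surjective _ (QuotientGroup.mk'_surjective _)) ?_
        exact le_trans (Nat.card_le_card_of_surjective _ (QuotientGroup.mk'_surjective K))
          (Finite.card_subtype_le _)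
      rw [hl] at h3
      exact (Nat.lt_two_pow_self).le.trans h3
    rw [hb, ← QuotientGroup.mk_pow] at h1
    exact (QuotientGroup.eq_one_iff _).mp h1
  · rintro _ ⟨t, ht, rfl⟩ ht2 d e h
    obtain ⟨i, hi⟩ := Cores.pCore_isPGroup q (S ⧸ K) ⟨π t, ht⟩
    have ht' : t * t = 1 := Subtype.ext ht2
    have h1 : π t = 1 := by
      refine orderOf_eq_one_iff.mp (Nat.eq_one_of_dvd_coprimes
        (Nat.coprime_pow_primes 1 i Nat.prime_two Fact.out (Ne.symm hq2))
        (orderOf_dvd_of_pow_eq_one ?_) (orderOf_dvd_of_pow_eq_one ?_))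
      · rw [← map_pow, pow_one, pow_two, ht', map_one]
      · simpa using congrArg Subtype.val hi
    have h2 : ψ t = 1 := (QuotientGroup.eq_one_iff t).mp h1
    have h3 : cA D (t : H) d * d⁻¹ ∈ R := by
      have h4 := DFunLike.congr_fun h2 (d : M)
      rw [hψ, MulAut.one_apply, QuotientGroup.eq_iff_div_mem, div_eq_mul_inv] at h4
      exact h4
    exact (hR _).mp h3 e h

end Piece

set_option maxHeartbeats 1000000 in
/-- The involution lies in `O_{2',2}`. -/
theorem mem_pPrimePCore (hs : Group.IsSolvable H) (hO : Cfsg.pCore 2 H = ⊥) (ρ : H →* End k W)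
    (hρ : Function.Injective ρ) {n : ℕ} {x : H} (hx : NormZero ρ n x) :
    x ^ 2 ^ (n - 1) ∈ Cfsg.pPrimePCore 2 H := by
  classical
  haveI : Fact (Nat.Prime 2) := ⟨Nat.prime_two⟩
  set y := x ^ 2 ^ (n - 1) with hy
  -- critical subgroups
  have hcrit : ∀ q : Nat.Primes, ∃ A D : Subgroup H, A.Normal ∧ D.Normal ∧ A ≤ D ∧
      D ≤ Cfsg.pCore (q : ℕ) H ∧ (∀ a ∈ A, ∀ d ∈ D, a * d = d * a) ∧ (∀ d ∈ D, d ^ (q : ℕ) ∈ A) ∧
      (∀ d ∈ D, ∀ s ∈ Cfsg.pCore (q : ℕ) H, ⁅d, s⁆ ∈ A) ∧
      ∀ s ∈ Cfsg.pCore (q : ℕ) H, (∀ d ∈ D, s * d = d * s) → s ∈ A := fun q => by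
    haveI := Fact.mk q.2
    exact exists_critical _ (Cores.pCore_isPGroup _ H)
  choose A D hAn hDn hAD hDS hAc hDp hDA hCA using hcrit
  set Y := Subgroup.normalClosure ({y} : Set H) with hY
  have hyY : y ∈ Y := Subgroup.subset_normalClosure rfl
  have hbot : ∀ q : Nat.Primes, (q : ℕ) = 2 → D q = ⊥ := fun q hq => by
    refine le_bot_iff.mp ((hDS q).trans ?_)
    rw [hq, hO]
  have hDne2 : ∀ q : Nat.Primes, D q ≠ ⊥ → (q : ℕ) ≠ 2 := fun q h e => h (hbot q e)
  -- `Y` centralises each `A`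
  have hYA : ∀ q, Y ≤ Subgroup.centralizer (A q : Set H) := by
    intro q
    haveI := hAn q
    refine Subgroup.normalClosure_le_normal ?_
    rintro _ rfl
    refine Subgroup.mem_centralizer_iff.mpr fun a ha => ?_
    by_cases hq : (q : ℕ) = 2
    · have h := hAD q ha
      rw [hbot q hq, Subgroup.mem_bot] at h
      rw [h, mul_one, one_mul]
    · haveI := Fact.mk q.2
      refine (hx.centralizes_abelian hρ (A q) (fun a ha b hb => hAc q a ha b (hAD q hb)) ?_ a ha).symm
      obtain ⟨c, hc⟩ := ((Cores.pCore_isPGroup (q : ℕ) H).to_le ((hAD q).trans (hDS q))).exists_card_eq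
      rw [hc, Nat.cast_pow]
      exact pow_ne_zero _ (natCast_ne_zero_two q.2 hq)
  -- the centre of `D`
  have hZA : ∀ q, ∀ z : D q, z ∈ Subgroup.center (D q) ↔ (z : H) ∈ A q := by
    intro q z
    constructor
    · intro hz
      exact hCA q _ (hDS q z.2) fun d hd =>
        (congrArg Subtype.val (Subgroup.mem_center_iff.mp hz ⟨d, hd⟩)).symm
    · intro hz
      exact Subgroup.mem_center_iff.mpr fun d => Subtype.ext (hAc q _ hz d d.2).symm
  have hcomm : ∀ q, commutator (D q) ≤ Subgroup.center (D q) := by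
    intro q
    rw [commutator_def, Subgroup.commutator_le]
    intro a _ b _
    rw [hZA]
    exact hDA q a a.2 b (hDS q b.2)
  -- the pieces
  let ι := Σ q : {q : Nat.Primes // (q : ℕ) ≠ 2},
    {χ : Subgroup.center (D q.1) → k // ∃ w : W, w ≠ 0 ∧
      ∀ z : Subgroup.center (D q.1), ρ ((z : D q.1) : H) w = χ z • w}
  have hstab : ∀ i : ι, ∀ g ∈ Y, g ∈ (haveI := hDn i.1.1; weightStab (D i.1.1) i.2.1) := by
    intro i g hg z
    haveI := hDn i.1.1
    refine congrArg i.2.1 (Subtype.ext (Subtype.ext ?_))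
    show ((cA (D i.1.1) g (z : D i.1.1) : D i.1.1) : H) = _
    rw [cA, MulAut.conjNormal_apply,
      ← Subgroup.mem_centralizer_iff.mp (hYA i.1.1 hg) _ ((hZA _ _).mp z.2), mul_inv_cancel_right]
  have hpiece : ∀ i : ι, ∃ (I N : Subgroup H), (haveI := hDn i.1.1; N ≤ weightStab (D i.1.1) i.2.1) ∧
      (∀ g : H, g * y * g⁻¹ ∈ I) ∧
      (∀ g ∈ Y, ∀ a ∈ N, g * a * g⁻¹ ∈ N) ∧
      (∀ a ∈ I, a ^ 2 ^ Nat.card H ∈ N) ∧
      ∀ t ∈ N, t * t = 1 → ∀ (d e : D i.1.1),
        (haveI := hDn i.1.1; ∀ h : ⁅cA (D i.1.1) t d * d⁻¹, e⁆ ∈ Subgroup.center (D i.1.1),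
          i.2.1 ⟨⁅cA (D i.1.1) t d * d⁻¹, e⁆, h⟩ = 1) := by
    intro i
    haveI := hDn i.1.1
    haveI := Fact.mk i.1.1.2
    obtain ⟨w, hw0, hw⟩ := i.2.2
    obtain ⟨I, N, h1, h2, h3, h4, h5⟩ := piece (D i.1.1) i.1.2 hs ρ hx
      ((Cores.pCore_isPGroup _ H).to_le (hDS _)) (hcomm _)
      (fun d => (hZA _ _).mpr (by rw [SubmonoidClass.coe_pow]; exact hDp _ d d.2))
      (fun g z hz => Subtype.ext (by
        rw [cA, MulAut.conjNormal_apply, ← Subgroup.mem_centralizer_iff.mp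
          (hYA i.1.1 (Subgroup.Normal.conj_mem Subgroup.normalClosure_normal y hyY g)) _
          ((hZA _ _).mp hz), mul_inv_cancel_right]))
      i.2.1 w hw0 hw
    exact ⟨I, N, h1, h2, fun g hg => h3 g (hstab i g hg), h4, h5⟩
  choose I N _hNle hI hNn hpow hinv using hpiece
  let K : Subgroup H := Y ⊓ ⨅ i, N i
  have hYK : ∀ g ∈ Y, g ^ 2 ^ Nat.card H ∈ K := fun g hg =>
    ⟨pow_mem hg _, Subgroup.mem_iInf.mpr fun i => hpow i g (by
      have hle : Y ≤ I i := by
        rw [hY, Subgroup.normalClosure, Subgroup.closure_le]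
        intro a ha
        obtain ⟨b, rfl, hab⟩ := Group.mem_conjugatesOfSet_iff.mp ha
        obtain ⟨g, rfl⟩ := isConj_iff.mp hab
        exact hI i g
      exact hle hg)⟩
  haveI hKn : (K.subgroupOf Y).Normal := ⟨fun a ha g => by
    rw [Subgroup.mem_subgroupOf] at ha ⊢
    exact ⟨(g * a * g⁻¹).2, Subgroup.mem_iInf.mpr fun i =>
      hNn i g g.2 a (Subgroup.mem_iInf.mp ha.2 i)⟩⟩
  -- `K` has odd order
  have hKodd : (Nat.card K).Coprime 2 := by
    refine (Nat.prime_two.coprime_iff_not_dvd.mpr fun hd => ?_).symm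
    obtain ⟨⟨t, ht⟩, hto⟩ := exists_prime_orderOf_dvd_card' 2 hd
    rw [Subgroup.orderOf_mk] at hto
    have ht2 : t * t = 1 := by rw [← pow_two, ← hto, pow_orderOf_eq_one]
    -- the stabiliser of all the critical subgroups
    let C : Nat.Primes → Subgroup H := fun q =>
      haveI := hAn q
      Subgroup.centralizer (A q : Set H) ⊓
        (Subgroup.centralizer (((D q).map (QuotientGroup.mk' (A q)) : Subgroup _) : Set (H ⧸ A q))).comap
          (QuotientGroup.mk' (A q))
    have hCn : ∀ q, (C q).Normal := fun q => by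
      haveI := hAn q
      haveI := hDn q
      haveI : ((D q).map (QuotientGroup.mk' (A q))).Normal :=
        Subgroup.Normal.map inferInstance _ (QuotientGroup.mk'_surjective _)
      exact Subgroup.normal_inf_normal _ _
    let C₀ : Subgroup H := ⨅ q, C q
    haveI : C₀.Normal := Subgroup.normal_iInf_normal hCn
    have hC₀F : C₀ ≤ Cfsg.fittingSubgroup H := by
      refine le_fitting_of_actions hs C₀ (fun p hp g hg => ?_) (fun p hp z hz hzc g hg => ?_)
      · haveI := Fact.mk hp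
        have hg' := Subgroup.mem_iInf.mp hg ⟨p, hp⟩
        haveI := hAn ⟨p, hp⟩
        refine pow_centralizes (Cores.pCore_isPGroup p H) (hAD ⟨p, hp⟩) (hDS ⟨p, hp⟩) (hDA ⟨p, hp⟩)
          (hCA ⟨p, hp⟩) (fun a ha => ?_) fun d hd => ?_
        · rw [← Subgroup.mem_centralizer_iff.mp hg'.1 a ha, mul_inv_cancel_right]
        · have h := Subgroup.mem_centralizer_iff.mp hg'.2 _ ⟨d, hd, rfl⟩
          rw [← QuotientGroup.eq_one_iff, ← QuotientGroup.mk'_apply, map_mul, map_mul, map_mul, map_inv,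
            map_inv, ← h, mul_inv_cancel_right, mul_inv_cancel]
      · have hg' := Subgroup.mem_iInf.mp hg ⟨p, hp⟩
        exact (Subgroup.mem_centralizer_iff.mp hg'.1 z
          (hCA ⟨p, hp⟩ z hz fun d hd => hzc d (hDS ⟨p, hp⟩ hd))).symm
    have htC : t ∈ C₀ := by
      refine Subgroup.mem_iInf.mpr fun q => ?_
      haveI := hAn q
      haveI := hDn q
      refine ⟨hYA q ht.1, Subgroup.mem_centralizer_iff.mpr ?_⟩
      rintro _ ⟨d, hd, rfl⟩
      by_cases hq : (q : ℕ) = 2
      · rw [hbot q hq] at hd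
        replace hd := Subgroup.mem_bot.mp hd
        rw [hd, map_one, one_mul, mul_one]
      haveI := Fact.mk q.2
      set c := cA (D q) t ⟨d, hd⟩ * (⟨d, hd⟩ : D q)⁻¹ with hc
      have hcZ : c ∈ Subgroup.center (D q) := by
        refine Subgroup.mem_center_iff.mpr fun e => ?_
        have hmem : ⁅c, e⁆ ∈ Subgroup.center (D q) :=
          hcomm q (Subgroup.commutator_mem_commutator (Subgroup.mem_top _) (Subgroup.mem_top _))
        by_contra hne
        have hne' : (ρ.comp (D q).subtype) ⁅c, e⁆ ≠ 1 := fun h1 => hne (by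
          have h2 : ⁅c, e⁆ = 1 := Subtype.ext (hρ (h1.trans (map_one ρ).symm))
          exact (commutatorElement_eq_one_iff_mul_comm.mp h2).symm)
        have hcard : (Nat.card (Subgroup.center (D q)) : k) ≠ 0 := by
          obtain ⟨l, hl⟩ := (((Cores.pCore_isPGroup (q : ℕ) H).to_le (hDS q)).to_subgroup
            (Subgroup.center (D q))).exists_card_eq
          rw [hl, Nat.cast_pow]
          exact pow_ne_zero _ (natCast_ne_zero_two q.2 hq)
        obtain ⟨χ, w, hw0, hw, hχ⟩ := Solvable.FPF.exists_weight (ρ.comp (D q).subtype) _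
          (fun a ha b _ => (Subgroup.mem_center_iff.mp ha b).symm) hcard hmem hne'
        exact hχ (hinv ⟨⟨q, hq⟩, χ, w, hw0, hw⟩ t (Subgroup.mem_iInf.mp ht.2 _) ht2 ⟨d, hd⟩ e hmem)
      have hcA := (hZA q c).mp hcZ
      rw [hc, Subgroup.coe_mul, Subgroup.coe_inv, cA, MulAut.conjNormal_apply] at hcA
      have h := (QuotientGroup.eq_one_iff (N := A q) _).mpr hcA
      rw [← QuotientGroup.mk'_apply, map_mul, map_mul, map_mul, map_inv, map_inv, mul_inv_eq_one,
        mul_inv_eq_iff_eq_mul] at h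
      exact h.symm
    have htF := Cores.fittingSubgroup_le_pCore_sup_pPrimeCore 2 (hC₀F htC)
    rw [hO, bot_sup_eq] at htF
    refine absurd hto ?_
    intro h2
    have h3 : orderOf t ∣ Nat.card (Cfsg.pPrimeCore 2 H) := by
      rw [← Subgroup.orderOf_mk t htF]; exact orderOf_dvd_natCard _
    rw [h2] at h3
    exact (Nat.prime_two.coprime_iff_not_dvd.mp (Cores.pPrimeCore_coprime 2 H).symm) h3
  -- conclusion
  have hKle : K ≤ Cfsg.pPrimeCore 2 H := by
    refine le_trans ?_ (Cores.map_subtype_pPrimeCore_le Y)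
    intro a ha
    refine ⟨⟨a, ha.1⟩, Cores.le_pPrimeCore hKn ?_ (Subgroup.mem_subgroupOf.mpr ha), rfl⟩
    rwa [Nat.card_congr (Subgroup.subgroupOfEquivOfLe (inf_le_left : K ≤ Y)).toEquiv]
  show QuotientGroup.mk' (Cfsg.pPrimeCore 2 H) y ∈ Cfsg.pCore 2 (H ⧸ Cfsg.pPrimeCore 2 H)
  haveI : Y.Normal := Subgroup.normalClosure_normal
  refine Cores.le_pCore (N := Y.map (QuotientGroup.mk' (Cfsg.pPrimeCore 2 H)))
    (Subgroup.Normal.map inferInstance _ (QuotientGroup.mk'_surjective _)) ?_ ⟨y, hyY, rfl⟩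
  rintro ⟨_, g, hg, rfl⟩
  refine ⟨Nat.card H, Subtype.ext ?_⟩
  rw [SubmonoidClass.coe_pow, ← map_pow, OneMemClass.coe_one, QuotientGroup.mk'_apply,
    QuotientGroup.eq_one_iff]
  exact hKle (hYK g hg)

end Cfsg.Agent.Lib.Solvable.GrossLength
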