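import Cfsg.Agent.Lib.Solvable.GrossLength.Stab
import Cfsg.Agent.Lib.Solvable.GrossTwo.Plane
import Cfsg.Agent.Lib.Coprime.Action
import Cfsg.Agent.Lib.Solvable.FPF.Module

/-!
An element of order `2 ^ m`, `q = 2 ^ m - 1`, moving only a plane over the field of `q` elements: in a
solvable linear group its involution lies in `O_{q,2}`.
-/

set_option autoImplicit false

namespace Cfsg.Agent.Lib.Solvable.GrossLength

open Module Cfsg.Agent.Lib
open scoped commutatorElement

universe u

/-- The statement, for spaces of a given size. -/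
def PlaneClaim (q m N : ℕ) [Fact q.Prime] : Prop :=
  ∀ (V : Type u) [AddCommGroup V] [Module (ZMod q) V] [Finite V], Nat.card V = N →
    ∀ (G : Type u) [Group G] [Finite G], Group.IsSolvable G →
    ∀ (ρ : G →* End (ZMod q) V), Function.Injective ρ → ∀ φ : G, φ ^ 2 ^ m = 1 →
    (∀ v, ρ (φ ^ 2 ^ (m - 1)) v = v → ρ φ v = v) →
    finrank (ZMod q) (LinearMap.range (ρ (φ ^ 2 ^ (m - 1)) - 1)) ≤ 2 →
    φ ^ 2 ^ (m - 1) ∈ oqTwo q G

variable {q m : ℕ} [Fact q.Prime] {V : Type u} [AddCommGroup V] [Module (ZMod q) V] [Finite V]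
  {G : Type u} [Group G] [Finite G]

theorem q_ne_two (hm : 2 ≤ m) (hqm : q + 1 = 2 ^ m) : q ≠ 2 := by
  intro e
  have : 2 ^ 2 ≤ 2 ^ m := Nat.pow_le_pow_right (by norm_num) hm
  omega

theorem two_ne_zero' (hq2 : q ≠ 2) : (2 : ZMod q) ≠ 0 := by
  intro h
  have h1 : ((2 : ℕ) : ZMod q) = 0 := by exact_mod_cast h
  exact hq2 ((Nat.prime_dvd_prime_iff_eq Fact.out Nat.prime_two).mp
    ((ZMod.natCast_eq_zero_iff 2 q).mp h1))

omit [Finite V] [Finite G] in
theorem rho_inv_apply (ρ : G →* End (ZMod q) V) (g : G) (v : V) : ρ g⁻¹ (ρ g v) = v := by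
  rw [← End.mul_apply, ← map_mul, inv_mul_cancel, map_one, End.one_apply]

omit [Finite V] [Finite G] in
theorem rho_injective_apply (ρ : G →* End (ZMod q) V) (g : G) : Function.Injective (ρ g) :=
  fun a b h => by rw [← rho_inv_apply ρ g a, h, rho_inv_apply]

/-- The hypotheses on `φ`. -/
structure PlaneHyp (ρ : G →* End (ZMod q) V) (m : ℕ) (φ : G) : Prop where
  hm : 2 ≤ m
  hqm : q + 1 = 2 ^ m
  hφ : φ ^ 2 ^ m = 1
  hfix : ∀ v, ρ (φ ^ 2 ^ (m - 1)) v = v → ρ φ v = v
  hrk : finrank (ZMod q) (LinearMap.range (ρ (φ ^ 2 ^ (m - 1)) - 1)) ≤ 2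

namespace PlaneHyp

variable {ρ : G →* End (ZMod q) V} {φ : G} (H : PlaneHyp ρ m φ)

/-- The moved plane. -/
def plane (ρ : G →* End (ZMod q) V) (m : ℕ) (φ : G) : Submodule (ZMod q) V :=
  LinearMap.ker (ρ (φ ^ 2 ^ (m - 1)) + 1)

omit [Finite V] [Finite G] in
theorem mem_plane {v : V} : v ∈ plane ρ m φ ↔ ρ (φ ^ 2 ^ (m - 1)) v = -v := by
  rw [plane, LinearMap.mem_ker, LinearMap.add_apply, End.one_apply, add_eq_zero_iff_eq_neg]

include H

omit [Finite V] [Finite G] in
theorem yy : φ ^ 2 ^ (m - 1) * φ ^ 2 ^ (m - 1) = 1 := by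
  have := H.hm
  rw [← pow_add, ← two_mul, ← pow_succ', Nat.sub_add_cancel (by omega), H.hφ]

omit [Finite V] [Finite G] in
theorem yy_apply (v : V) : ρ (φ ^ 2 ^ (m - 1)) (ρ (φ ^ 2 ^ (m - 1)) v) = v := by
  rw [← End.mul_apply, ← map_mul, H.yy, map_one, End.one_apply]

omit [Finite V] [Finite G] in
theorem phi_comm (v : V) : ρ (φ ^ 2 ^ (m - 1)) (ρ φ v) = ρ φ (ρ (φ ^ 2 ^ (m - 1)) v) := by
  rw [← End.mul_apply, ← map_mul, (Commute.pow_self φ _).eq, map_mul, End.mul_apply]

omit [Finite V] [Finite G] in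
theorem two_ne : (2 : ZMod q) ≠ 0 := two_ne_zero' (q_ne_two H.hm H.hqm)

omit [Finite V] [Finite G] in
theorem eq_zero_of_eq_neg {v : V} (h : v = -v) : v = 0 := by
  have h1 : (2 : ZMod q) • v = 0 := by rw [two_smul]; nth_rewrite 2 [h]; exact add_neg_cancel v
  exact (smul_eq_zero.mp h1).resolve_left H.two_ne

omit [Finite V] [Finite G] in
/-- Splitting into a fixed and a moved part. -/
theorem split (v : V) : ∃ f p : V, ρ (φ ^ 2 ^ (m - 1)) f = f ∧ p ∈ plane ρ m φ ∧ v = f + p := by
  refine ⟨(2 : ZMod q)⁻¹ • (v + ρ (φ ^ 2 ^ (m - 1)) v), (2 : ZMod q)⁻¹ • (v - ρ (φ ^ 2 ^ (m - 1)) v),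
    ?_, mem_plane.mpr ?_, ?_⟩
  · rw [map_smul, map_add, H.yy_apply, add_comm]
  · rw [map_smul, map_sub, H.yy_apply, ← smul_neg, neg_sub]
  · rw [← smul_add, add_add_sub_cancel, ← two_smul (ZMod q) v, smul_smul, inv_mul_cancel₀ H.two_ne,
      one_smul]

omit [Finite V] [Finite G] in
theorem phi_mem_plane {v : V} (hv : v ∈ plane ρ m φ) : ρ φ v ∈ plane ρ m φ := by
  rw [mem_plane] at hv ⊢
  rw [H.phi_comm, hv, map_neg]

omit [Finite V] [Finite G] in
theorem phi_sub_mem_plane (v : V) : ρ φ v - v ∈ plane ρ m φ := by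
  obtain ⟨f, p, hf, hp, rfl⟩ := H.split v
  rw [map_add, H.hfix f hf, show f + ρ φ p - (f + p) = ρ φ p - p by abel]
  exact Submodule.sub_mem _ (H.phi_mem_plane hp) hp

omit [Finite G] in
theorem finrank_plane : finrank (ZMod q) (plane ρ m φ) ≤ 2 := by
  refine le_trans (Submodule.finrank_mono fun v hv =>
    LinearMap.mem_range.mpr ⟨-((2 : ZMod q)⁻¹ • v), ?_⟩) H.hrk
  rw [mem_plane] at hv
  rw [LinearMap.sub_apply, End.one_apply, map_neg, map_smul, hv, smul_neg, neg_neg, sub_neg_eq_add,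
    ← smul_add, ← two_smul (ZMod q) v, smul_smul, inv_mul_cancel₀ H.two_ne, one_smul]

omit [Finite V] [Finite G] in
/-- `φ` has no eigenvector in the plane. -/
theorem no_eigen {v : V} (hv : v ∈ plane ρ m φ) (c : ZMod q) (hc : ρ φ v = c • v) : v = 0 := by
  by_contra hv0
  have hm := H.hm
  have hp : ∀ i : ℕ, ρ (φ ^ i) v = c ^ i • v := by
    intro i
    induction i with
    | zero => simp
    | succ i ih => rw [pow_succ', map_mul, End.mul_apply, ih, map_smul, hc, smul_smul, pow_succ]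
  have h1 : c ^ 2 ^ (m - 1) + 1 = 0 := by
    refine (smul_eq_zero.mp ?_).resolve_right hv0
    rw [add_smul, one_smul, ← hp, mem_plane.mp hv, neg_add_cancel]
  have h2 : c ^ 2 ^ m = 1 := by
    refine smul_left_injective (ZMod q) hv0 ?_
    show c ^ 2 ^ m • v = (1 : ZMod q) • v
    rw [← hp, H.hφ, map_one, End.one_apply, one_smul]
  have hc0 : c ≠ 0 := fun e => by
    rw [e, zero_pow (by positivity)] at h2
    exact zero_ne_one h2
  have h3 : c ^ (q - 1) = 1 := ZMod.pow_card_sub_one_eq_one hc0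
  have h4 : c ^ 2 = 1 := by
    have h5 : 2 ^ m = (q - 1) + 2 := by
      have := (Fact.out : q.Prime).two_le
      have := H.hqm
      omega
    rw [h5, pow_add, h3, one_mul] at h2
    exact h2
  have h6 : c ^ 2 ^ (m - 1) = 1 := by
    rw [show 2 ^ (m - 1) = 2 * 2 ^ (m - 2) by
      rw [← pow_succ']; congr 1; omega, pow_mul, h4, one_pow]
  rw [h6] at h1
  exact H.two_ne (by rw [← h1]; norm_num)

/-- An invariant nonzero subspace of the plane is two-dimensional. -/
theorem two_le_finrank (U : Submodule (ZMod q) V) (hU : U ≤ plane ρ m φ) (hne : U ≠ ⊥)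
    (hinv : ∀ v ∈ U, ρ φ v ∈ U) : 2 ≤ finrank (ZMod q) U := by
  obtain ⟨v, hv, hv0⟩ := (Submodule.ne_bot_iff _).mp hne
  by_contra hlt
  obtain ⟨c, hc⟩ := exists_smul_eq_of_finrank_eq_one (K := ZMod q) (V := U)
    (le_antisymm (by omega) (Submodule.one_le_finrank_iff.mpr hne))
    (x := ⟨v, hv⟩) (fun e => hv0 (congrArg Subtype.val e)) ⟨_, hinv v hv⟩
  exact hv0 (H.no_eigen (hU hv) c (congrArg Subtype.val hc).symm)

/-- The `φ`-twisted anticommuting element. -/
theorem swap_contra (hy1 : φ ^ 2 ^ (m - 1) ≠ 1) (hρ : Function.Injective ρ) (z a : G)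
    (hzy : ∀ v, ρ (φ ^ 2 ^ (m - 1)) (ρ z v) = -ρ z (ρ (φ ^ 2 ^ (m - 1)) v))
    (hz : φ * z * φ⁻¹ = a * z) (ha : a * z = z * a)
    (ha1 : ρ a = 1 ∨ ρ a = -1 ∨ ∀ v, ρ (a * a) v = v → v = 0) : False := by
  have hφz : ∀ v, ρ φ (ρ z v) = ρ a (ρ z (ρ φ v)) := fun v => by
    rw [← End.mul_apply, ← map_mul, ← End.mul_apply (ρ z), ← map_mul, ← End.mul_apply, ← map_mul,
      ← mul_assoc, ← hz]
    congr 2
    group
  have hP : ∀ p ∈ plane ρ m φ, ρ φ p = ρ a p ∧ ρ (a * a) (ρ z p) = ρ z p := by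
    intro p hp
    rw [mem_plane] at hp
    set u := ρ z⁻¹ p with hu
    have hzu : ρ z u = p := by
      rw [hu, ← End.mul_apply, ← map_mul, mul_inv_cancel, map_one, End.one_apply]
    have huy : ρ (φ ^ 2 ^ (m - 1)) u = u := by
      refine rho_injective_apply ρ z ?_
      have h := hzy u
      rw [hzu, hp, neg_inj] at h
      rw [← h, hzu]
    have h1 : ρ φ p = ρ a p := by rw [← hzu, hφz, H.hfix u huy, hzu]
    refine ⟨h1, ?_⟩
    have hzp : ρ (φ ^ 2 ^ (m - 1)) (ρ z p) = ρ z p := by rw [hzy, hp, map_neg, neg_neg]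
    conv_rhs => rw [← H.hfix _ hzp, hφz, h1, ← End.mul_apply (ρ z), ← map_mul, ← ha, map_mul,
      End.mul_apply, ← End.mul_apply (ρ a), ← map_mul]
  refine hy1 (hρ (LinearMap.ext fun v => ?_))
  obtain ⟨f, p, hf, hp, rfl⟩ := H.split v
  suffices p = 0 by rw [map_one, End.one_apply, this, add_zero, hf]
  obtain ⟨h1, h2⟩ := hP p hp
  rcases ha1 with h | h | h
  · exact H.no_eigen hp 1 (by rw [h1, h, End.one_apply, one_smul])
  · exact H.no_eigen hp (-1) (by rw [h1, h, LinearMap.neg_apply, End.one_apply, neg_smul, one_smul])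
  · exact rho_injective_apply ρ z (by rw [h _ h2, map_zero])

end PlaneHyp

/-- Passing to a quotient with a faithful action on a smaller space. -/
theorem mem_comap_oqTwo {N : ℕ} (IH : ∀ M < N, PlaneClaim.{u} q m M) (hs : Group.IsSolvable G)
    {W : Type u} [AddCommGroup W] [Module (ZMod q) W] [Finite W] (hW : Nat.card W < N)
    (ρ : G →* End (ZMod q) W) (φ : G) (hφ : φ ^ 2 ^ m = 1)
    (hfix : ∀ v, ρ (φ ^ 2 ^ (m - 1)) v = v → ρ φ v = v)
    (hrk : finrank (ZMod q) (LinearMap.range (ρ (φ ^ 2 ^ (m - 1)) - 1)) ≤ 2) :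
    φ ^ 2 ^ (m - 1) ∈ (oqTwo q (G ⧸ ρ.ker)).comap (QuotientGroup.mk' ρ.ker) := by
  set π := QuotientGroup.mk' ρ.ker
  let σ : G ⧸ ρ.ker →* End (ZMod q) W := QuotientGroup.lift ρ.ker ρ le_rfl
  have hσ : Function.Injective σ := by
    intro a b hab
    induction a using QuotientGroup.induction_on with
    | H a => induction b using QuotientGroup.induction_on with
      | H b =>
        refine QuotientGroup.eq.mpr (MonoidHom.mem_ker.mpr ?_)
        change ρ a = ρ b at hab
        rw [map_mul, ← hab, ← map_mul, inv_mul_cancel, map_one]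
  rw [Subgroup.mem_comap, map_pow]
  refine IH _ hW W rfl _ (Coprime.isSolvable_of_surjective' (QuotientGroup.mk'_surjective _) hs) σ hσ
    (π φ) (by rw [← map_pow, hφ, map_one]) ?_ ?_
  · rw [← map_pow]; exact hfix
  · rw [← map_pow]; exact hrk

set_option maxHeartbeats 1000000 in
/-- The reducible case. -/
theorem of_invariant {N : ℕ} (IH : ∀ M < N, PlaneClaim.{u} q m M) (hs : Group.IsSolvable G)
    (hN : Nat.card V = N) (ρ : G →* End (ZMod q) V) (hρ : Function.Injective ρ) {φ : G}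
    (H : PlaneHyp ρ m φ) (W : Submodule (ZMod q) V) (hWb : W ≠ ⊥) (hWt : W ≠ ⊤)
    (hW : ∀ g, ∀ v ∈ W, ρ g v ∈ W) : φ ^ 2 ^ (m - 1) ∈ oqTwo q G := by
  classical
  set y := φ ^ 2 ^ (m - 1) with hy
  have hc1 : Nat.card W < N := by
    rw [← hN]
    refine lt_of_le_of_ne (Finite.card_subtype_le _) fun e => hWt ?_
    refine Submodule.eq_top_iff'.mpr fun v => ?_
    obtain ⟨w, rfl⟩ := ((Nat.bijective_iff_injective_and_card (fun w : W => (w : V))).mpr
      ⟨Subtype.val_injective, e⟩).2 v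
    exact w.2
  have hc2 : Nat.card (V ⧸ W) < N := by
    rw [← hN]
    refine lt_of_le_of_ne (Nat.card_le_card_of_surjective _ (Submodule.mkQ_surjective W)) fun e => hWb ?_
    rw [← Submodule.ker_mkQ W, LinearMap.ker_eq_bot]
    exact ((Nat.bijective_iff_surjective_and_card W.mkQ).mpr ⟨Submodule.mkQ_surjective W, e.symm⟩).1
  haveI : Finite (V ⧸ W) := Finite.of_surjective _ (Submodule.mkQ_surjective W)
  let ρ₁ : G →* End (ZMod q) W :=
    { toFun := fun g => (ρ g).restrict (hW g)
      map_one' := LinearMap.ext fun w => Subtype.ext (by simp)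
      map_mul' := fun a b => LinearMap.ext fun w => Subtype.ext (by simp) }
  let ρ₂ : G →* End (ZMod q) (V ⧸ W) :=
    { toFun := fun g => W.mapQ W (ρ g) (hW g)
      map_one' := Submodule.linearMap_qext _ (LinearMap.ext fun v => by simp)
      map_mul' := fun a b => Submodule.linearMap_qext _ (LinearMap.ext fun v => by simp) }
  have h1 := mem_comap_oqTwo IH hs hc1 ρ₁ φ H.hφ
    (fun w hw => Subtype.ext (H.hfix w (congrArg Subtype.val hw))) (by
      refine le_trans ?_ H.hrk
      rw [← Submodule.finrank_map_subtype_eq W]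
      refine Submodule.finrank_mono ?_
      rintro _ ⟨_, ⟨w, rfl⟩, rfl⟩
      exact ⟨w, rfl⟩)
  have h2 := mem_comap_oqTwo IH hs hc2 ρ₂ φ H.hφ (fun x hx => by
      obtain ⟨v, rfl⟩ := Submodule.mkQ_surjective W x
      obtain ⟨f, p, hf, hp, rfl⟩ := H.split v
      have hpW : p ∈ W := by
        change Submodule.Quotient.mk (ρ y (f + p)) = Submodule.Quotient.mk (f + p) at hx
        rw [Submodule.Quotient.eq, map_add, hf, PlaneHyp.mem_plane.mp hp,
          show f + -p - (f + p) = (-2 : ZMod q) • p by rw [neg_smul, two_smul]; abel] at hx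
        have h := W.smul_mem (-2 : ZMod q)⁻¹ hx
        rwa [smul_smul, inv_mul_cancel₀ (neg_ne_zero.mpr H.two_ne), one_smul] at h
      show Submodule.Quotient.mk (ρ φ (f + p)) = Submodule.Quotient.mk (f + p)
      rw [Submodule.Quotient.eq, map_add, H.hfix f hf,
        show f + ρ φ p - (f + p) = ρ φ p - p by abel]
      exact W.sub_mem (hW φ p hpW) hpW) (by
      refine le_trans ?_ H.hrk
      refine le_trans (Submodule.finrank_mono ?_) (Submodule.finrank_map_le W.mkQ _)
      rintro _ ⟨x, rfl⟩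
      obtain ⟨v, rfl⟩ := Submodule.mkQ_surjective W x
      exact ⟨_, ⟨v, rfl⟩, rfl⟩)
  -- the intersection
  let π₁ := QuotientGroup.mk' ρ₁.ker
  let π₂ := QuotientGroup.mk' ρ₂.ker
  let N₀ : Subgroup G := (Cfsg.pCore q (G ⧸ ρ₁.ker)).comap π₁ ⊓ (Cfsg.pCore q (G ⧸ ρ₂.ker)).comap π₂
  let I : Subgroup G := (oqTwo q (G ⧸ ρ₁.ker)).comap π₁ ⊓ (oqTwo q (G ⧸ ρ₂.ker)).comap π₂
  have hmemI : y ∈ I := ⟨h1, h2⟩
  refine le_oqTwo I N₀ ?_ (fun g hg => ?_) hmemI
  · rintro ⟨g, hg1, hg2⟩
    obtain ⟨i₁, hi₁⟩ := Cores.pCore_isPGroup q _ ⟨_, hg1⟩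
    obtain ⟨i₂, hi₂⟩ := Cores.pCore_isPGroup q _ ⟨_, hg2⟩
    have e1 : g ^ q ^ i₁ ∈ ρ₁.ker := (QuotientGroup.eq_one_iff _).mp (by
      simpa [π₁] using congrArg Subtype.val hi₁)
    have e2 : g ^ q ^ i₂ ∈ ρ₂.ker := (QuotientGroup.eq_one_iff _).mp (by
      simpa [π₂] using congrArg Subtype.val hi₂)
    set g' := g ^ q ^ (i₁ + i₂) with hg'
    have e1' : ρ₁ g' = 1 := by
      rw [hg', pow_add, pow_mul, map_pow, MonoidHom.mem_ker.mp e1, one_pow]
    have e2' : ρ₂ g' = 1 := by
      rw [hg', pow_add, mul_comm, pow_mul, map_pow, MonoidHom.mem_ker.mp e2, one_pow]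
    have hdiff : ∀ v, ρ g' v - v ∈ W := fun v => (Submodule.Quotient.eq W).mp
      (LinearMap.congr_fun e2' (Submodule.Quotient.mk v))
    have hW' : ∀ w ∈ W, ρ g' w = w := fun w hw => congrArg Subtype.val (LinearMap.congr_fun e1' ⟨w, hw⟩)
    have hpow : ∀ (i : ℕ) v, ρ (g' ^ i) v = v + i • (ρ g' v - v) := by
      intro i
      induction i with
      | zero => intro v; simp
      | succ i ih =>
        intro v
        rw [pow_succ', map_mul, End.mul_apply, ih, map_add, map_nsmul,
          hW' (ρ g' v - v) (hdiff v), succ_nsmul]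
        abel
    have hgq : g' ^ q = 1 := hρ (LinearMap.ext fun v => by
      rw [hpow, map_one, End.one_apply, ← Nat.cast_smul_eq_nsmul (ZMod q), ZMod.natCast_self,
        zero_smul, add_zero])
    refine ⟨i₁ + i₂ + 1, Subtype.ext ?_⟩
    rw [SubmonoidClass.coe_pow, OneMemClass.coe_one, Nat.pow_succ q (i₁ + i₂), pow_mul]
    exact hgq
  · obtain ⟨a, ha⟩ := exists_pow_mem_of_mem_oqTwo (q := q) (y := π₁ g) (Subgroup.mem_comap.mp hg.1)
    obtain ⟨b, hb⟩ := exists_pow_mem_of_mem_oqTwo (q := q) (y := π₂ g) (Subgroup.mem_comap.mp hg.2)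
    refine ⟨a + b, ?_, ?_⟩
    · refine Subgroup.mem_comap.mpr ?_
      rw [map_pow, pow_add, pow_mul]
      exact pow_mem ha _
    · refine Subgroup.mem_comap.mpr ?_
      rw [map_pow, pow_add, mul_comm, pow_mul]
      exact pow_mem hb _

section Irreducible

/-- An involution in the Fitting subgroup lies in `O_{q,2}`. -/
theorem two_elem_mem_oqTwo {G : Type u} [Group G] [Finite G] {y : G} (hy : y * y = 1)
    (hF : y ∈ Cfsg.fittingSubgroup G) : y ∈ oqTwo q G := by
  haveI : Fact (Nat.Prime 2) := ⟨Nat.prime_two⟩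
  have h2 : y ∈ Cfsg.pCore 2 G := by
    obtain ⟨s, hs, o, ho, hso⟩ := Subgroup.mem_sup_of_normal_right.mp
      (Cores.fittingSubgroup_le_pCore_sup_pPrimeCore 2 hF)
    set π := QuotientGroup.mk' (Cfsg.pCore 2 G)
    have h1 : π y = π o := by
      rw [← hso, map_mul, show π s = 1 from (QuotientGroup.eq_one_iff s).mpr hs, one_mul]
    refine (QuotientGroup.eq_one_iff y).mp (show π y = 1 from ?_)
    refine orderOf_eq_one_iff.mp (Nat.eq_one_of_dvd_coprimes
      (Cores.pPrimeCore_coprime 2 G) ?_ (orderOf_dvd_of_pow_eq_one (n := 2) ?_))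
    · rw [h1]
      exact (orderOf_map_dvd π o).trans (by
        rw [← Subgroup.orderOf_mk o ho]; exact orderOf_dvd_natCard _)
    · rw [← map_pow, pow_two, hy, map_one]
  exact le_oqTwo (Cfsg.pCore 2 G) ⊥ IsPGroup.of_bot (fun g hg => by
    obtain ⟨i, hi⟩ := Cores.pCore_isPGroup 2 G ⟨g, hg⟩
    exact ⟨i, Subgroup.mem_bot.mpr (by simpa using congrArg Subtype.val hi)⟩) h2

variable {ρ : G →* End (ZMod q) V} {φ : G}

omit [Finite G] in
/-- Common eigenvectors of commuting involutions. -/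
theorem exists_sign_vector [Nontrivial V] (hq2 : q ≠ 2) (E : Subgroup G)
    (hE : ∀ a ∈ E, ∀ b ∈ E, a * b = b * a) (hE2 : ∀ a ∈ E, a * a = 1) [Finite E] :
    ∃ (χ : E → ZMod q) (v : V), v ≠ 0 ∧ ∀ e : E, ρ (e : G) v = χ e • v := by
  classical
  haveI := Fintype.ofFinite E
  have key : ∀ s : Finset E, ∃ v : V, v ≠ 0 ∧ ∀ e ∈ s, ∃ c : ZMod q, ρ (e : G) v = c • v := by
    intro s
    induction s using Finset.induction_on with
    | empty =>
      obtain ⟨v, hv⟩ := exists_ne (0 : V)
      exact ⟨v, hv, fun e he => absurd he (Finset.notMem_empty e)⟩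
    | @insert e s _ ih =>
      obtain ⟨v, hv0, hv⟩ := ih
      by_cases h : v + ρ (e : G) v = 0
      · refine ⟨v, hv0, fun e' he' => ?_⟩
        rcases Finset.mem_insert.mp he' with rfl | h'
        · exact ⟨-1, by rw [neg_smul, one_smul, eq_neg_iff_add_eq_zero, add_comm]; exact h⟩
        · exact hv e' h'
      · refine ⟨_, h, fun e' he' => ?_⟩
        rcases Finset.mem_insert.mp he' with rfl | h'
        · refine ⟨1, ?_⟩
          rw [map_add, ← End.mul_apply, ← map_mul, hE2 _ e'.2, map_one, End.one_apply, one_smul,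
            add_comm]
        · obtain ⟨c, hc⟩ := hv e' h'
          refine ⟨c, ?_⟩
          rw [map_add, hc, ← End.mul_apply, ← map_mul, hE _ e'.2 _ e.2, map_mul, End.mul_apply, hc,
            map_smul, smul_add]
  obtain ⟨v, hv0, hv⟩ := key Finset.univ
  choose χ hχ using fun e => hv e (Finset.mem_univ e)
  exact ⟨χ, v, hv0, hχ⟩

/-- The weight space of a sign character. -/
def wspace (ρ : G →* End (ZMod q) V) (E : Subgroup G) (χ : E → ZMod q) : Submodule (ZMod q) V :=
  ⨅ e : E, End.eigenspace (ρ (e : G)) (χ e)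

omit [Finite V] [Finite G] in
theorem mem_wspace {E : Subgroup G} {χ : E → ZMod q} {v : V} :
    v ∈ wspace ρ E χ ↔ ∀ e : E, ρ (e : G) v = χ e • v := by
  simp [wspace, Submodule.mem_iInf, End.mem_eigenspace_iff]

/-- An elementary abelian normal `2`-subgroup consists of `±1`, or the conclusion holds. -/
theorem sign_or_mem {N : ℕ} (IH : ∀ M < N, PlaneClaim.{u} q m M) (hs : Group.IsSolvable G)
    (hN : Nat.card V = N) (hρ : Function.Injective ρ) (H : PlaneHyp ρ m φ) [Nontrivial V]
    (hirr : ∀ W : Submodule (ZMod q) V, (∀ g, ∀ v ∈ W, ρ g v ∈ W) → W = ⊥ ∨ W = ⊤)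
    (E : Subgroup G) [E.Normal] (hE : ∀ a ∈ E, ∀ b ∈ E, a * b = b * a) (hE2 : ∀ a ∈ E, a * a = 1) :
    φ ^ 2 ^ (m - 1) ∈ oqTwo q G ∨ ∀ e ∈ E, ρ e = 1 ∨ ρ e = -1 := by
  classical
  have hm := H.hm
  let cj : G → E → E := fun g e => ⟨g⁻¹ * e * g, by
    simpa using Subgroup.Normal.conj_mem (inferInstance : E.Normal) e e.2 g⁻¹⟩
  have hcj : ∀ a b e, cj b (cj a e) = cj (a * b) e := fun a b e => Subtype.ext (by
    show b⁻¹ * (a⁻¹ * (e : G) * a) * b = (a * b)⁻¹ * e * (a * b)
    group)
  have hmap : ∀ g (χ : E → ZMod q), ∀ v ∈ wspace ρ E χ, ρ g v ∈ wspace ρ E (χ ∘ cj g) := by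
    intro g χ v hv
    rw [mem_wspace] at hv ⊢
    intro e
    rw [← End.mul_apply, ← map_mul, show (e : G) * g = g * (cj g e : G) by simp [cj, mul_assoc],
      map_mul, End.mul_apply, hv, map_smul]
    rfl
  let Stab : (E → ZMod q) → Subgroup G := fun χ =>
    { carrier := {g | ∀ e, χ (cj g e) = χ e}
      one_mem' := fun e => congrArg χ (Subtype.ext (by simp [cj]))
      mul_mem' := fun {a b} ha hb e => by rw [← hcj, hb, ha]
      inv_mem' := fun {a} ha e => by
        conv_lhs => rw [← ha, hcj]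
        exact congrArg χ (Subtype.ext (by simp [cj])) }
  have huniq : ∀ (χ ψ : E → ZMod q) v, v ≠ 0 → v ∈ wspace ρ E χ → v ∈ wspace ρ E ψ → χ = ψ := by
    intro χ ψ v hv0 h1 h2
    rw [mem_wspace] at h1 h2
    funext e
    exact smul_left_injective (ZMod q) hv0 ((h1 e).symm.trans (h2 e))
  -- `y` fixes every weight
  have hyS : ∀ χ, wspace ρ E χ ≠ ⊥ → φ ^ 2 ^ (m - 1) ∈ Stab χ := by
    intro χ hχ
    by_contra hy
    obtain ⟨v, hv, hv0⟩ := (Submodule.ne_bot_iff _).mp hχ
    have hns : ∀ d : Fin 4, d ≠ 0 → φ ^ (d : ℕ) ∉ Stab χ := by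
      intro d hd hmem
      refine hy ?_
      fin_cases d
      · exact absurd rfl hd
      · simp only at hmem
        rw [pow_one] at hmem
        exact pow_mem hmem _
      · rw [show 2 ^ (m - 1) = 2 * 2 ^ (m - 2) by rw [← pow_succ']; congr 1; omega, pow_mul]
        exact pow_mem hmem _
      · have h3 : φ ^ 2 ^ (m - 1) = (φ ^ 3) ^ 2 ^ (m - 1) := by
          rw [← pow_mul, mul_comm, pow_mul, pow_succ, pow_two, H.yy, one_mul]
        rw [h3]
        exact pow_mem hmem _
    have hwi : ∀ i : ℕ, ρ (φ ^ i) v ∈ wspace ρ E (χ ∘ cj (φ ^ i)) := fun i => hmap _ _ _ hv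
    have hdist : ∀ i j : Fin 4, χ ∘ cj (φ ^ (i : ℕ)) = χ ∘ cj (φ ^ (j : ℕ)) → i = j := by
      have key : ∀ i j : Fin 4, (i : ℕ) ≤ j → χ ∘ cj (φ ^ (i : ℕ)) = χ ∘ cj (φ ^ (j : ℕ)) → i = j := by
        intro i j hle h
        by_contra hne
        have hlt : (i : ℕ) < j := lt_of_le_of_ne hle fun e => hne (Fin.ext e)
        refine hns ⟨(j : ℕ) - i, by omega⟩ (fun e => by
          have := congrArg Fin.val e
          simp only [Fin.val_zero] at this
          omega) fun e => ?_
        have h1 := congrFun h (cj (φ ^ (i : ℕ))⁻¹ e)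
        simp only [Function.comp_apply, hcj, inv_mul_cancel] at h1
        rw [show (φ ^ (i : ℕ))⁻¹ * φ ^ (j : ℕ) = φ ^ ((j : ℕ) - i) by
          rw [eq_comm, eq_inv_mul_iff_mul_eq, ← pow_add, Nat.add_sub_cancel' hle]] at h1
        show χ (cj (φ ^ ((j : ℕ) - i)) e) = χ e
        rw [← h1]
        exact congrArg χ (Subtype.ext (by simp [cj]))
      intro i j h
      rcases le_total (i : ℕ) j with h' | h'
      · exact key i j h' h
      · exact (key j i h' h.symm).symm
    let d : Fin 3 → V := fun i => ρ (φ ^ ((i : ℕ) + 1)) v - ρ (φ ^ (i : ℕ)) v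
    have hind : LinearIndependent (ZMod q) d := by
      rw [Fintype.linearIndependent_iff]
      intro g hg
      let w : Fin 4 → V := fun i => (![-g 0, g 0 - g 1, g 1 - g 2, g 2] i) • ρ (φ ^ (i : ℕ)) v
      have hw : ∑ i, w i = 0 := by
        rw [← hg]
        simp only [Fin.sum_univ_four, Fin.sum_univ_three, w, d, Matrix.cons_val_zero,
          Matrix.cons_val_one, Matrix.cons_val, Fin.val_zero, Fin.val_one, Fin.val_two,
          show ((3 : Fin 4) : ℕ) = 3 from rfl, sub_smul, neg_smul, smul_sub]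
        abel
      have h0 := Solvable.FPF.eq_zero_of_sum_eq_zero (fun e : E => ρ (e : G)) Finset.univ w
        (fun i => χ ∘ cj (φ ^ (i : ℕ))) (fun i _ e => by
          show ρ (e : G) (w i) = _
          rw [map_smul, mem_wspace.mp (hwi i) e, smul_comm])
        (fun i _ j _ h => hdist i j h) hw
      have hne : ∀ i : ℕ, ρ (φ ^ i) v ≠ 0 := fun i e =>
        hv0 (rho_injective_apply ρ _ (e.trans (map_zero _).symm))
      have hc : ∀ i : Fin 4, ![-g 0, g 0 - g 1, g 1 - g 2, g 2] i = 0 := fun i =>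
        (smul_eq_zero.mp (h0 i (Finset.mem_univ i))).resolve_right (hne _)
      have c0 : g 0 = 0 := neg_eq_zero.mp (by simpa using hc 0)
      have c1 : g 1 = 0 := by have := hc 1; simpa [c0] using this
      have c2 : g 2 = 0 := by simpa using hc 3
      intro i; fin_cases i <;> assumption
    have hspan : Submodule.span (ZMod q) (Set.range d) ≤ PlaneHyp.plane ρ m φ := by
      rw [Submodule.span_le]
      rintro _ ⟨i, rfl⟩
      show ρ (φ ^ ((i : ℕ) + 1)) v - _ ∈ _
      rw [pow_succ', map_mul, End.mul_apply]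
      exact H.phi_sub_mem_plane _
    have := (Submodule.finrank_mono hspan).trans H.finrank_plane
    rw [finrank_span_eq_card hind, Fintype.card_fin] at this
    omega
  have hnorm : ∀ g (χ : E → ZMod q), wspace ρ E χ ≠ ⊥ → wspace ρ E (χ ∘ cj g) ≠ ⊥ := by
    intro g χ hχ
    obtain ⟨v, hv, hv0⟩ := (Submodule.ne_bot_iff _).mp hχ
    exact (Submodule.ne_bot_iff _).mpr ⟨_, hmap g χ v hv,
      fun e => hv0 (rho_injective_apply ρ g (e.trans (map_zero _).symm))⟩
  let G₀ : Subgroup G :=
    { carrier := {g | ∀ χ, wspace ρ E χ ≠ ⊥ → g ∈ Stab χ}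
      one_mem' := fun χ _ => one_mem _
      mul_mem' := fun ha hb χ hχ => mul_mem (ha χ hχ) (hb χ hχ)
      inv_mem' := fun ha χ hχ => inv_mem (ha χ hχ) }
  haveI : G₀.Normal := ⟨fun g hg h χ hχ e => by
    have h1 := hg (χ ∘ cj h⁻¹) (hnorm _ χ hχ) (cj h e)
    simp only [Function.comp_apply, hcj] at h1
    rw [h1]
    exact congrArg χ (Subtype.ext (by simp [cj]))⟩
  have hyG₀ : φ ^ 2 ^ (m - 1) ∈ G₀ := fun χ hχ => hyS χ hχ
  obtain ⟨χ₀, v₀, hv₀0, hv₀⟩ := exists_sign_vector (ρ := ρ) (q_ne_two hm H.hqm) E hE hE2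
  have hχ₀ : wspace ρ E χ₀ ≠ ⊥ := (Submodule.ne_bot_iff _).mpr ⟨v₀, mem_wspace.mpr hv₀, hv₀0⟩
  by_cases hφG : φ ∈ G₀
  · -- `φ` fixes the weights
    by_cases htop : wspace ρ E χ₀ = ⊤
    · refine Or.inr fun e he => ?_
      have hsc : ρ e = χ₀ ⟨e, he⟩ • 1 := LinearMap.ext fun v =>
        mem_wspace.mp (htop.symm ▸ Submodule.mem_top : v ∈ wspace ρ E χ₀) ⟨e, he⟩
      have h1 : χ₀ ⟨e, he⟩ * χ₀ ⟨e, he⟩ = 1 := by
        refine smul_left_injective (ZMod q) hv₀0 ?_
        show (χ₀ ⟨e, he⟩ * χ₀ ⟨e, he⟩) • v₀ = (1 : ZMod q) • v₀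
        rw [mul_smul, ← hv₀ ⟨e, he⟩, ← map_smul, ← hv₀ ⟨e, he⟩]
        show ρ e (ρ e v₀) = _
        rw [← End.mul_apply, ← map_mul, hE2 e he, map_one, End.one_apply, one_smul]
      rcases mul_self_eq_one_iff.mp h1 with h | h
      · exact Or.inl (by rw [hsc, h, one_smul])
      · exact Or.inr (by rw [hsc, h, neg_smul, one_smul])
    · left
      have h := of_invariant (ρ := ρ.comp G₀.subtype) IH inferInstance hN
        (hρ.comp Subtype.val_injective) (φ := ⟨φ, hφG⟩)
        ⟨hm, H.hqm, Subtype.ext (by simpa using H.hφ), by simpa using H.hfix,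
          by convert H.hrk using 3 <;> simp⟩
        (wspace ρ E χ₀) hχ₀ htop (fun g v hv => by
          have h1 := hmap (g : G) χ₀ v hv
          rwa [show χ₀ ∘ cj (g : G) = χ₀ from funext (g.2 χ₀ hχ₀)] at h1)
      exact oqTwo_map_le G₀ ⟨_, h, by simp⟩
  · -- `φ` moves a weight
    left
    obtain ⟨χ, hχ, hφχ⟩ : ∃ χ, wspace ρ E χ ≠ ⊥ ∧ φ ∉ Stab χ := by
      by_contra h
      push Not at h
      exact hφG h
    have hne : χ ∘ cj φ ≠ χ := fun e => hφχ fun x => congrFun e x
    have hinP : ∀ ψ, wspace ρ E ψ ≠ ⊥ → φ ∉ Stab ψ → wspace ρ E ψ ≤ PlaneHyp.plane ρ m φ := by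
      intro ψ hψ hφψ v hv
      have hyv : ρ (φ ^ 2 ^ (m - 1)) v ∈ wspace ρ E ψ := by
        have h1 := hmap (φ ^ 2 ^ (m - 1)) ψ v hv
        rwa [show ψ ∘ cj (φ ^ 2 ^ (m - 1)) = ψ from funext (hyS ψ hψ)] at h1
      obtain ⟨f, p, hf, hp, hfp⟩ := H.split v
      have hfv : f = (2 : ZMod q)⁻¹ • (v + ρ (φ ^ 2 ^ (m - 1)) v) := by
        rw [hfp, map_add, hf, PlaneHyp.mem_plane.mp hp, show f + p + (f + -p) = f + f by abel,
          ← two_smul (ZMod q) f, smul_smul, inv_mul_cancel₀ H.two_ne, one_smul]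
      have hf0 : f = 0 := by
        by_contra hf0
        have hfm : f ∈ wspace ρ E ψ := hfv ▸ Submodule.smul_mem _ _ (Submodule.add_mem _ hv hyv)
        have h2 := hmap φ ψ f hfm
        rw [H.hfix f hf] at h2
        exact hφψ fun x => congrFun (huniq _ _ f hf0 h2 hfm) x
      rw [hfp, hf0, zero_add]
      exact hp
    have hφχ' : φ ∉ Stab (χ ∘ cj φ) := by
      intro h
      apply hne
      funext e
      have h3 := h (cj φ⁻¹ e)
      simp only [Function.comp_apply, hcj] at h3
      rw [show cj (φ⁻¹ * φ * φ) e = cj φ e from by rw [inv_mul_cancel, one_mul],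
        show cj (φ⁻¹ * φ) e = e from Subtype.ext (by simp [cj])] at h3
      exact h3
    have hdim : finrank (ZMod q) (wspace ρ E χ) = 1 := by
      have h1 : wspace ρ E χ ⊔ wspace ρ E (χ ∘ cj φ) ≤ PlaneHyp.plane ρ m φ :=
        sup_le (hinP χ hχ hφχ) (hinP _ (hnorm φ χ hχ) hφχ')
      have h2 : wspace ρ E χ ⊓ wspace ρ E (χ ∘ cj φ) = ⊥ := by
        refine (Submodule.eq_bot_iff _).mpr fun v hv => ?_
        by_contra hv0
        exact hne (huniq _ _ v hv0 hv.1 hv.2).symm
      have h3 := Submodule.finrank_sup_add_finrank_inf_eq (wspace ρ E χ) (wspace ρ E (χ ∘ cj φ))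
      rw [h2, finrank_bot, add_zero] at h3
      have h4 := (Submodule.finrank_mono h1).trans H.finrank_plane
      have h5 := Submodule.one_le_finrank_iff.mpr hχ
      have h6 := Submodule.one_le_finrank_iff.mpr (hnorm φ χ hχ)
      omega
    obtain ⟨v, hv, hv0⟩ := (Submodule.ne_bot_iff _).mp hχ
    -- everything is spanned by translates of `v`
    have hspan : Submodule.span (ZMod q) (Set.range fun g : G => ρ g v) = ⊤ := by
      refine (hirr _ fun h w hw => ?_).resolve_left fun e => hv0 ?_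
      · have hle : Submodule.span (ZMod q) (Set.range fun g : G => ρ g v) ≤
            (Submodule.span (ZMod q) (Set.range fun g : G => ρ g v)).comap (ρ h) := by
          rw [Submodule.span_le]
          rintro _ ⟨g, rfl⟩
          refine Submodule.subset_span ⟨h * g, ?_⟩
          show ρ (h * g) v = ρ h (ρ g v)
          rw [map_mul, End.mul_apply]
        exact hle hw
      · have : v ∈ Submodule.span (ZMod q) (Set.range fun g : G => ρ g v) :=
          Submodule.subset_span ⟨1, by simp⟩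
        rwa [e, Submodule.mem_bot] at this
    have hscal : ∀ a ∈ G₀, ∀ g, ∃ c : ZMod q, ρ a (ρ g v) = c • ρ g v := by
      intro a ha g
      have hconj : g⁻¹ * a * g ∈ G₀ := by
        simpa using Subgroup.Normal.conj_mem (inferInstance : G₀.Normal) a ha g⁻¹
      have h1 := hmap (g⁻¹ * a * g) χ v hv
      rw [show χ ∘ cj (g⁻¹ * a * g) = χ from funext (hconj χ hχ)] at h1
      obtain ⟨c, hc⟩ := exists_smul_eq_of_finrank_eq_one (K := ZMod q) hdim
        (x := (⟨v, hv⟩ : wspace ρ E χ)) (fun e => hv0 (congrArg Subtype.val e)) ⟨_, h1⟩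
      refine ⟨c, ?_⟩
      have h2 : c • v = ρ (g⁻¹ * a * g) v := congrArg Subtype.val hc
      rw [← map_smul, h2, ← End.mul_apply, ← map_mul, ← End.mul_apply, ← map_mul]
      congr 2
      group
    have hab : ∀ a ∈ G₀, ∀ b ∈ G₀, a * b = b * a := by
      intro a ha b hb
      refine hρ (LinearMap.ext fun w => ?_)
      have hle : Submodule.span (ZMod q) (Set.range fun g : G => ρ g v) ≤
          LinearMap.eqLocus (ρ (a * b)) (ρ (b * a)) := by
        rw [Submodule.span_le]
        rintro _ ⟨g, rfl⟩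
        obtain ⟨c, hc⟩ := hscal a ha g
        obtain ⟨c', hc'⟩ := hscal b hb g
        show ρ (a * b) (ρ g v) = ρ (b * a) (ρ g v)
        rw [map_mul, map_mul, End.mul_apply, End.mul_apply, hc', hc, map_smul, map_smul, hc, hc',
          smul_comm]
      exact hle (hspan ▸ Submodule.mem_top)
    have hF : G₀ ≤ Cfsg.fittingSubgroup G := by
      haveI : IsMulCommutative G₀ := ⟨⟨fun a b => Subtype.ext (hab a a.2 b b.2)⟩⟩
      exact Cores.le_fittingSubgroup inferInstance (Cores.isNilpotent_of_isMulCommutative G₀)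
    exact two_elem_mem_oqTwo (H.yy) (hF hyG₀)

/-- Conjugation and commutators in a subgroup with central commutators. -/
theorem comm_mul_left {G : Type u} [Group G] {a b e : G} (h : a * ⁅b, e⁆ = ⁅b, e⁆ * a) :
    ⁅a * b, e⁆ = ⁅b, e⁆ * ⁅a, e⁆ := by
  have e1 : ⁅a * b, e⁆ = a * ⁅b, e⁆ * a⁻¹ * ⁅a, e⁆ := by simp only [commutatorElement_def]; group
  rw [e1, h, mul_inv_cancel_right]

theorem comm_mul_right {G : Type u} [Group G] {d a b : G} (h : a * ⁅d, b⁆ = ⁅d, b⁆ * a) :
    ⁅d, a * b⁆ = ⁅d, a⁆ * ⁅d, b⁆ := by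
  have e1 : ⁅d, a * b⁆ = ⁅d, a⁆ * (a * ⁅d, b⁆ * a⁻¹) := by simp only [commutatorElement_def]; group
  rw [e1, h, mul_inv_cancel_right]

set_option maxHeartbeats 1000000 in
/-- The irreducible case. -/
theorem of_irreducible {N : ℕ} (IH : ∀ M < N, PlaneClaim.{u} q m M) (hs : Group.IsSolvable G)
    (hN : Nat.card V = N) (hρ : Function.Injective ρ) (H : PlaneHyp ρ m φ) [Nontrivial V]
    (hirr : ∀ W : Submodule (ZMod q) V, (∀ g, ∀ v ∈ W, ρ g v ∈ W) → W = ⊥ ∨ W = ⊤) :
    φ ^ 2 ^ (m - 1) ∈ oqTwo q G := by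
  classical
  have hm := H.hm
  haveI : Fact (Nat.Prime 2) := ⟨Nat.prime_two⟩
  set y := φ ^ 2 ^ (m - 1) with hy
  by_contra hgoal
  have hy1 : y ≠ 1 := fun e => hgoal (by rw [e]; exact one_mem _)
  have hyy : y * y = 1 := H.yy
  have hyi : y⁻¹ = y := inv_eq_of_mul_eq_one_right hyy
  have hφy : φ * y = y * φ := (Commute.self_pow φ _).eq
  -- `y` commutes with the odd part of the Fitting subgroup
  have hodd : ∀ r : ℕ, r.Prime → r ≠ 2 → ∀ u ∈ Cfsg.pCore r G, y * u = u * y := by
    intro r hr hr2 u hu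
    haveI := Fact.mk hr
    by_cases hrq : r = q
    · subst hrq
      have hQ : Cfsg.pCore r G = ⊥ := by
        set Q := Cfsg.pCore r G
        letI : MulAction Q V :=
          { smul := fun g v => ρ (g : G) v
            one_smul := fun v => by show ρ ((1 : Q) : G) v = v; simp
            mul_smul := fun a b v => by show ρ ((a * b : Q) : G) v = ρ (a : G) (ρ (b : G) v); simp }
        have hcard : r ∣ Nat.card V := by
          rw [Module.natCard_eq_pow_finrank (K := ZMod r) (V := V), Nat.card_zmod]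
          exact dvd_pow_self r (Module.finrank_pos).ne'
        obtain ⟨v, hv, hv0⟩ := (Cores.pCore_isPGroup r G).exists_fixed_point_of_prime_dvd_card_of_fixed_point
          V hcard (a := 0) (fun g => map_zero (ρ (g : G)))
        let W : Submodule (ZMod r) V :=
          { carrier := {v | ∀ g ∈ Q, ρ g v = v}
            add_mem' := fun ha hb g hg => by rw [map_add, ha g hg, hb g hg]
            zero_mem' := fun g _ => map_zero _
            smul_mem' := fun c v hv g hg => by rw [map_smul, hv g hg] }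
        rcases hirr W (fun g v hv h hh => by
            rw [← End.mul_apply, ← map_mul, show h * g = g * (g⁻¹ * h * g) by group, map_mul,
              End.mul_apply, hv _ (by simpa using Subgroup.Normal.conj_mem inferInstance h hh g⁻¹)])
          with h | h
        · have hvW : v ∈ W := fun g hg => hv ⟨g, hg⟩
          rw [h] at hvW
          exact absurd ((Submodule.mem_bot _).mp hvW) hv0.symm
        · refine (Subgroup.eq_bot_iff_forall _).mpr fun g hg => hρ (LinearMap.ext fun w => ?_)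
          rw [map_one, End.one_apply]
          exact (h.symm ▸ Submodule.mem_top : w ∈ W) g hg
      rw [hQ, Subgroup.mem_bot] at hu
      rw [hu, mul_one, one_mul]
    let L : G →* MulAut (Multiplicative V) := MonoidHom.mk' (fun g =>
      { toFun := fun v => Multiplicative.ofAdd (ρ g v.toAdd)
        invFun := fun v => Multiplicative.ofAdd (ρ g⁻¹ v.toAdd)
        left_inv := fun v => by simp [rho_inv_apply]
        right_inv := fun v => by
          simp only [toAdd_ofAdd]
          rw [← End.mul_apply, ← map_mul, mul_inv_cancel, map_one, End.one_apply, ofAdd_toAdd]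
        map_mul' := fun a b => by simp [toAdd_mul, ofAdd_add] }) fun a b => MulEquiv.ext fun v => by
          simp [MulAut.mul_apply]
    have hL : Function.Injective L := by
      intro a b hab
      refine hρ (LinearMap.ext fun v => ?_)
      exact Multiplicative.ofAdd.injective (DFunLike.congr_fun hab (Multiplicative.ofAdd v))
    let S : Subgroup (Multiplicative V) :=
      AddSubgroup.toSubgroup (PlaneHyp.plane ρ m φ).toAddSubgroup
    have hS : Nat.card S ≤ q ^ 2 := by
      rw [show Nat.card S = Nat.card (PlaneHyp.plane ρ m φ) from Nat.card_congr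
        ⟨fun v => ⟨v.1.toAdd, v.2⟩, fun v => ⟨Multiplicative.ofAdd v.1, v.2⟩, fun _ => rfl,
          fun _ => rfl⟩,
        Module.natCard_eq_pow_finrank (K := ZMod q), Nat.card_zmod]
      exact Nat.pow_le_pow_right (Fact.out : q.Prime).pos H.finrank_plane
    have hV : ∀ v : Multiplicative V, v ^ q = 1 := fun v => by
      refine Multiplicative.toAdd.injective ?_
      rw [toAdd_pow, toAdd_one, ← Nat.cast_smul_eq_nsmul (ZMod q), ZMod.natCast_self, zero_smul]
    have hfixL : ∀ v, (L φ ^ 2 ^ (m - 1)) v = v → L φ v = v := fun v hv => by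
      rw [← map_pow] at hv
      exact congrArg Multiplicative.ofAdd (H.hfix v.toAdd (congrArg Multiplicative.toAdd hv))
    have hmove : ∀ v, (L φ ^ 2 ^ (m - 1)) v * v⁻¹ ∈ S := fun v => by
      rw [← map_pow]
      show ρ y v.toAdd + -v.toAdd ∈ PlaneHyp.plane ρ m φ
      obtain ⟨f, p, hf, hp, hfp⟩ := H.split v.toAdd
      rw [hfp, map_add, hf, PlaneHyp.mem_plane.mp hp, show f + -p + -(f + p) = -(p + p) by abel]
      exact Submodule.neg_mem _ (Submodule.add_mem _ hp hp)
    have hnorm : L φ ∈ Subgroup.normalizer (((Cfsg.pCore r G).map L : Subgroup _) : Set _) := by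
      rw [Subgroup.mem_normalizer_iff_map_conj_eq]
      refine Subgroup.eq_of_le_of_card_ge ?_
        (Subgroup.card_map_of_injective (MulAut.conj (L φ)).injective).ge
      rintro _ ⟨_, ⟨g, hg, rfl⟩, rfl⟩
      refine ⟨φ * g * φ⁻¹, Subgroup.Normal.conj_mem inferInstance g hg φ, ?_⟩
      rw [map_mul, map_mul, map_inv]; rfl
    have h := GrossTwo.commute_of_plane_group hV hm H.hqm hr hr2 hrq (L φ)
      (by rw [← map_pow, H.hφ, map_one]) hfixL S hS hmove _ ((Cores.pCore_isPGroup r G).map L) hnorm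
      (L u) ⟨u, hu, rfl⟩
    rw [← map_pow] at h
    exact hL (by rw [map_mul, map_mul]; exact h.eq)
  -- the critical subgroup of `O₂`
  obtain ⟨A, D, hAn, hDn, hAD, hDS, hAc, hD2, hDA, hCA⟩ :=
    exists_critical (Cfsg.pCore 2 G) (Cores.pCore_isPGroup 2 G)
  haveI := hAn
  haveI := hDn
  have hAab : ∀ a ∈ A, ∀ b ∈ A, a * b = b * a := fun a ha b hb => hAc a ha b (hAD hb)
  have hsign : ∀ a ∈ A, a * a = 1 → ρ a = 1 ∨ ρ a = -1 := by
    let E : Subgroup G :=
      { carrier := {a | a ∈ A ∧ a * a = 1}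
        one_mem' := ⟨one_mem _, one_mul 1⟩
        mul_mem' := fun {a b} ha hb => ⟨mul_mem ha.1 hb.1, by
          rw [show a * b * (a * b) = a * (b * a) * b by group, hAab b hb.1 a ha.1,
            show a * (a * b) * b = (a * a) * (b * b) by group, ha.2, hb.2, one_mul]⟩
        inv_mem' := fun {a} ha => ⟨inv_mem ha.1, by rw [← mul_inv_rev, ha.2, inv_one]⟩ }
    haveI : E.Normal := ⟨fun a ha g => ⟨hAn.conj_mem a ha.1 g, by
      rw [show g * a * g⁻¹ * (g * a * g⁻¹) = g * (a * a) * g⁻¹ by group, ha.2, mul_one,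
        mul_inv_cancel]⟩⟩
    have h := (sign_or_mem IH hs hN hρ H hirr E (fun a ha b hb => hAab a ha.1 b hb.1)
      fun a ha => ha.2).resolve_left hgoal
    exact fun a ha h2 => h a ⟨ha, h2⟩
  have hneg1 : ∀ v : V, (-1 : End (ZMod q) V) v = v → v = 0 := fun v hv => by
    rw [LinearMap.neg_apply, End.one_apply] at hv
    exact H.eq_zero_of_eq_neg hv.symm
  have hfree : ∀ a ∈ A, a ≠ 1 → ∀ v, ρ a v = v → v = 0 := by
    intro a ha ha1 v hv
    have hex : ∃ i, a ^ 2 ^ i = 1 := by
      obtain ⟨i, hi⟩ := Cores.pCore_isPGroup 2 G ⟨a, hDS (hAD ha)⟩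
      exact ⟨i, congrArg Subtype.val hi⟩
    obtain ⟨l, hl, hlmin⟩ : ∃ l, a ^ 2 ^ l = 1 ∧ ∀ j < l, a ^ 2 ^ j ≠ 1 :=
      ⟨_, Nat.find_spec hex, fun j hj => Nat.find_min hex hj⟩
    obtain ⟨l, rfl⟩ : ∃ l', l = l' + 1 := Nat.exists_eq_succ_of_ne_zero (by
      rintro rfl; exact ha1 (by simpa using hl))
    have hfix : ∀ i : ℕ, ρ (a ^ i) v = v := fun i => by
      induction i with
      | zero => simp
      | succ i ih => rw [pow_succ, map_mul, End.mul_apply, hv, ih]
    rcases hsign _ (pow_mem ha (2 ^ l)) (by rw [← pow_add, ← two_mul, ← pow_succ', hl]) with h | h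
    · exact absurd (hρ (h.trans (map_one ρ).symm)) (hlmin l (lt_add_one l))
    · exact hneg1 v (by rw [← h]; exact hfix _)
  have ha1 : ∀ a ∈ A, ρ a = 1 ∨ ρ a = -1 ∨ ∀ v, ρ (a * a) v = v → v = 0 := by
    intro a ha
    by_cases h : a * a = 1
    · rcases hsign a ha h with e | e
      · exact Or.inl e
      · exact Or.inr (Or.inl e)
    · exact Or.inr (Or.inr (hfree _ (mul_mem ha ha) h))
  have hneg_mem : ∀ a, ρ a = -1 → ∀ g, a * g = g * a := fun a ha g => hρ (by
    rw [map_mul, map_mul, ha, neg_one_mul, mul_neg_one])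
  -- `y` centralises `A`
  have hAy : ∀ z ∈ A, y * z = z * y := by
    suffices h : ∀ l, ∀ z ∈ A, z ^ 2 ^ l = 1 → y * z = z * y by
      intro z hz
      obtain ⟨i, hi⟩ := Cores.pCore_isPGroup 2 G ⟨z, hDS (hAD hz)⟩
      exact h i z hz (congrArg Subtype.val hi)
    intro l
    induction l with
    | zero => intro z _ hz; rw [pow_zero, pow_one] at hz; rw [hz, mul_one, one_mul]
    | succ l ih =>
      intro z hz hzl
      by_contra hne
      have hz2 : y * (z * z) * y⁻¹ = z * z := by
        rw [ih (z * z) (mul_mem hz hz) (by rw [← pow_two, ← pow_mul, ← pow_succ', hzl]),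
          mul_inv_cancel_right]
      set c := y * z * y⁻¹ * z⁻¹ with hc
      have hcA : c ∈ A := mul_mem (hAn.conj_mem z hz y) (inv_mem hz)
      have hc2 : c * c = 1 := by
        have e : y * z * y⁻¹ = c * z := by rw [hc, inv_mul_cancel_right]
        have h1 : c * z * (c * z) = z * z := by
          rw [← e]
          calc y * z * y⁻¹ * (y * z * y⁻¹) = y * (z * z) * y⁻¹ := by group
            _ = _ := hz2
        rw [show c * z * (c * z) = c * (z * c) * z by group, hAab z hz c hcA] at h1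
        calc c * c = c * (c * z) * z * (z * z)⁻¹ := by group
          _ = _ := by rw [h1, mul_inv_cancel]
      have hc1 : ρ c = -1 := by
        rcases hsign c hcA hc2 with h | h
        · refine absurd ?_ hne
          have h1 : c = 1 := hρ (h.trans (map_one ρ).symm)
          rwa [hc, mul_inv_eq_one, mul_inv_eq_iff_eq_mul] at h1
        · exact h
      refine H.swap_contra hy1 hρ z (φ * z * φ⁻¹ * z⁻¹) (fun v => ?_)
        (by rw [inv_mul_cancel_right]) (hAab _ (mul_mem (hAn.conj_mem z hz φ) (inv_mem hz)) z hz)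
        (ha1 _ (mul_mem (hAn.conj_mem z hz φ) (inv_mem hz)))
      show ρ y (ρ z v) = -ρ z (ρ y v)
      rw [← End.mul_apply, ← map_mul, show y * z = c * (z * y) by rw [hc]; group, map_mul, hc1,
        End.mul_apply, LinearMap.neg_apply, End.one_apply, map_mul, End.mul_apply]
  have hyA : ∀ a ∈ A, y * a * y⁻¹ = a := fun a ha => by rw [hAy a ha, mul_inv_cancel_right]
  -- commutators in `D`
  have hcA : ∀ d ∈ D, ∀ e ∈ D, ⁅d, e⁆ ∈ A := fun d hd e he => hDA d hd e (hDS he)
  have hcen : ∀ a ∈ A, ∀ d ∈ D, d * a = a * d := fun a ha d hd => (hAc a ha d hd).symm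
  have hcsq : ∀ d ∈ D, ∀ e ∈ D, ⁅d, e⁆ * ⁅d, e⁆ = 1 := by
    intro d hd e he
    rw [← comm_mul_left (hcen _ (hcA d hd e he) d hd), commutatorElement_eq_one_iff_mul_comm]
    exact hAc _ (by rw [← pow_two]; exact hD2 d hd) e he
  have hcρ : ∀ d ∈ D, ∀ e ∈ D, ρ ⁅d, e⁆ = 1 ∨ ρ ⁅d, e⁆ = -1 := fun d hd e he =>
    hsign _ (hcA d hd e he) (hcsq d hd e he)
  have hcZ : ∀ d ∈ D, ∀ e ∈ D, ∀ g, ⁅d, e⁆ * g = g * ⁅d, e⁆ := by
    intro d hd e he g
    rcases hcρ d hd e he with h | h
    · rw [hρ (h.trans (map_one ρ).symm), one_mul, mul_one]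
    · exact hneg_mem _ h g
  set π := QuotientGroup.mk' A with hπ
  have hπA : ∀ g, π g = 1 ↔ g ∈ A := fun g => QuotientGroup.eq_one_iff g
  have hπc : ∀ d ∈ D, ∀ e ∈ D, π d * π e = π e * π d := fun d hd e he => by
    rw [← commutatorElement_eq_one_iff_mul_comm, ← map_commutatorElement, hπA]
    exact hcA d hd e he
  have hπ2 : ∀ d ∈ D, π d * π d = 1 := fun d hd => by
    rw [← map_mul, hπA, ← pow_two]; exact hD2 d hd
  -- `y` stabilises `D` modulo `A`
  have hyD : ∀ d ∈ D, y * d * y⁻¹ * d⁻¹ ∈ A := by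
    let C : G → G := fun d => φ * d * φ⁻¹ * d⁻¹
    have hCD : ∀ d ∈ D, C d ∈ D := fun d hd => mul_mem (hDn.conj_mem d hd φ) (inv_mem hd)
    by_cases hall : ∀ d ∈ D, C d * C d = 1
    · -- all displacements are involutions
      have hCC : ∀ d ∈ D, ∀ e ∈ D, ⁅C d, C e⁆ = 1 := by
        intro d hd e he
        rw [commutatorElement_eq_one_iff_mul_comm]
        have hde : C (d * e) = C d * C e * ⁅(C e)⁻¹, d⁆ := by
          simp only [C, commutatorElement_def]; group
        set ε := ⁅(C e)⁻¹, d⁆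
        have hε := hcZ _ (inv_mem (hCD e he)) d hd
        have hεε := hcsq _ (inv_mem (hCD e he)) d hd
        have h1 := hall _ (mul_mem hd he)
        rw [hde, show C d * C e * ε * (C d * C e * ε) = C d * C e * (ε * (C d * C e)) * ε by group,
          hε, show C d * C e * (C d * C e * ε) * ε = C d * C e * (C d * C e) * (ε * ε) by group, hεε,
          mul_one] at h1
        have i1 := inv_eq_of_mul_eq_one_right h1
        rw [mul_inv_rev, inv_eq_of_mul_eq_one_right (hall d hd),
          inv_eq_of_mul_eq_one_right (hall e he)] at i1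
        exact i1.symm
      have hinvar : ∀ d ∈ D, ∀ e ∈ D, ⁅φ * d * φ⁻¹, φ * e * φ⁻¹⁆ = ⁅d, e⁆ := by
        intro d hd e he
        rw [← conjugate_commutatorElement, ← hcZ d hd e he φ, mul_inv_cancel_right]
      have hsym : ∀ d ∈ D, ∀ e ∈ D, ⁅C d, e⁆ = ⁅d, C e⁆ := by
        intro d hd e he
        have hCdD := hCD d hd
        have hCeD := hCD e he
        have h1 := hinvar d hd e he
        rw [show φ * d * φ⁻¹ = C d * d by simp only [C]; group,
          show φ * e * φ⁻¹ = C e * e by simp only [C]; group,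
          comm_mul_left (hcen _ (hcA d hd _ (mul_mem hCeD he)) _ hCdD),
          comm_mul_right (hcen _ (hcA _ hCdD e he) _ hCeD), hCC d hd e he, one_mul,
          comm_mul_right (hcen _ (hcA d hd e he) _ hCeD)] at h1
        have h2 : ⁅d, C e⁆ * ⁅C d, e⁆ = 1 := by
          rw [mul_assoc, hcZ d hd e he, ← mul_assoc] at h1
          exact mul_right_cancel (h1.trans (one_mul _).symm)
        have h3 := hcsq d hd (C e) hCeD
        exact mul_left_cancel (h2.trans h3.symm)
      have hphi2 : ∀ d ∈ D, π (φ * φ) * π d = π d * π (φ * φ) := by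
        intro d hd
        have hCd := hCD d hd
        have hc' : φ * C d * φ⁻¹ * C d ∈ A := by
          have hmemD : φ * C d * φ⁻¹ * C d ∈ D := mul_mem (hDn.conj_mem _ hCd φ) hCd
          refine hCA _ (hDS hmemD) fun e he => ?_
          rw [← commutatorElement_eq_one_iff_mul_comm,
            comm_mul_left (hcen _ (hcA _ hCd e he) _ (hDn.conj_mem _ hCd φ))]
          have h1 : ⁅φ * C d * φ⁻¹, e⁆ = ⁅C d, e⁆ := by
            have hφd := hDn.conj_mem d hd φ
            rw [show φ * C d * φ⁻¹ = C (φ * d * φ⁻¹) by simp only [C]; group, hsym _ hφd e he,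
              show φ * d * φ⁻¹ = C d * d by simp only [C]; group,
              comm_mul_left (hcen _ (hcA d hd _ (hCD e he)) _ hCd), hCC d hd e he, mul_one,
              ← hsym d hd e he]
          rw [h1, hcsq _ hCd e he]
        have h2 : π (φ * φ * d * (φ * φ)⁻¹ * d⁻¹) = 1 := by
          rw [show φ * φ * d * (φ * φ)⁻¹ * d⁻¹ = φ * C d * φ⁻¹ * C d by simp only [C]; group, hπA]
          exact hc'
        rwa [map_mul, map_mul, map_mul, map_inv, map_inv, mul_inv_eq_one, mul_inv_eq_iff_eq_mul] at h2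
      intro d hd
      have h3 : Commute (π y) (π d) := by
        rw [show y = (φ * φ) ^ 2 ^ (m - 2) by
          rw [hy, ← pow_two, ← pow_mul, ← pow_succ']; congr 2; omega, map_pow]
        exact (show Commute (π (φ * φ)) (π d) from hphi2 d hd).pow_left _
      rw [← hπA, map_mul, map_mul, map_mul, map_inv, map_inv, h3.eq, mul_inv_cancel_right,
        mul_inv_cancel]
    · -- the space is small
      push Not at hall
      obtain ⟨d₁, hd₁, hd₁2⟩ := hall
      have hdim : finrank (ZMod q) V ≤ 4 := by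
        set c := C d₁ with hc
        have hsurj : LinearMap.range (ρ c - 1) = ⊤ := by
          refine LinearMap.range_eq_top.mpr (LinearMap.injective_iff_surjective.mp ?_)
          rw [← LinearMap.ker_eq_bot, Submodule.eq_bot_iff]
          intro v hv
          rw [LinearMap.mem_ker, LinearMap.sub_apply, End.one_apply, sub_eq_zero] at hv
          refine hfree (c * c) (by rw [← pow_two]; exact hD2 c (hCD d₁ hd₁)) hd₁2 v ?_
          rw [map_mul, End.mul_apply, hv, hv]
        set P := PlaneHyp.plane ρ m φ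
        have hle : LinearMap.range (ρ c - 1) ≤ P ⊔ P.map (ρ d₁) := by
          rintro _ ⟨v, rfl⟩
          set w := ρ (φ⁻¹ * d₁⁻¹) v with hw
          have hv : v = ρ d₁ (ρ φ w) := by
            rw [hw, ← End.mul_apply, ← map_mul, ← End.mul_apply, ← map_mul,
              show d₁ * φ * (φ⁻¹ * d₁⁻¹) = 1 by group, map_one, End.one_apply]
          have hcv : ρ c v = ρ φ (ρ d₁ w) := by
            rw [hw, ← End.mul_apply, ← map_mul, ← End.mul_apply, ← map_mul]
            congr 2
            simp only [hc, C]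
            group
          rw [LinearMap.sub_apply, End.one_apply, hcv,
            show ρ φ (ρ d₁ w) - v = (ρ φ (ρ d₁ w) - ρ d₁ w) + ρ d₁ (-(ρ φ w - w)) by
              rw [map_neg, map_sub, ← hv]; abel]
          exact Submodule.add_mem _ (Submodule.mem_sup_left (H.phi_sub_mem_plane _))
            (Submodule.mem_sup_right ⟨_, Submodule.neg_mem _ (H.phi_sub_mem_plane w), rfl⟩)
        rw [← finrank_top (ZMod q) V, ← hsurj]
        refine (Submodule.finrank_mono hle).trans ?_
        have h1 := Submodule.finrank_sup_add_finrank_inf_eq P (P.map (ρ d₁))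
        have h2 : finrank (ZMod q) P ≤ 2 := H.finrank_plane
        have h3 : finrank (ZMod q) (P.map (ρ d₁)) ≤ finrank (ZMod q) P := Submodule.finrank_map_le _ _
        omega
      by_contra hnot
      push Not at hnot
      obtain ⟨d₀, hd₀, hd₀A⟩ := hnot
      -- a displacement by `y`, fixed by `φ` modulo `A`
      let Y : G → G := fun d => y * d * y⁻¹ * d⁻¹
      have hYD : ∀ d ∈ D, Y d ∈ D := fun d hd => mul_mem (hDn.conj_mem d hd y) (inv_mem hd)
      have key : ∀ k, ∀ d ∈ D, Y d ∉ A → π (φ ^ 2 ^ k) * π (Y d) = π (Y d) * π (φ ^ 2 ^ k) →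
          ∃ d' ∈ D, Y d' ∉ A ∧ π φ * π (Y d') = π (Y d') * π φ := by
        intro k
        induction k with
        | zero => intro d hd hdA h; rw [pow_zero, pow_one] at h; exact ⟨d, hd, hdA, h⟩
        | succ k ih =>
          intro d hd hdA h
          by_cases hk : π (φ ^ 2 ^ k) * π (Y d) = π (Y d) * π (φ ^ 2 ^ k)
          · exact ih d hd hdA hk
          set g := φ ^ 2 ^ k with hg
          have hgy : y * g = g * y := (Commute.pow_pow_self φ _ _).eq
          set d' := g * d * g⁻¹ * d with hd'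
          have hd'D : d' ∈ D := mul_mem (hDn.conj_mem d hd g) hd
          have hYd' : π (Y d') = π g * π (Y d) * (π g)⁻¹ * π (Y d) := by
            have e : Y d' = g * Y d * g⁻¹ * ((g * d * g⁻¹) * Y d * (g * d * g⁻¹)⁻¹) := by
              have e1 : y * (g * d * g⁻¹) * y⁻¹ = g * (y * d * y⁻¹) * g⁻¹ := by
                calc y * (g * d * g⁻¹) * y⁻¹ = (y * g) * d * (y * g)⁻¹ := by group
                  _ = _ := by rw [hgy]; group
              calc Y d' = (y * (g * d * g⁻¹) * y⁻¹) * Y d * (g * d * g⁻¹)⁻¹ := by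
                    simp only [Y, hd']; group
                _ = _ := by rw [e1]; simp only [Y]; group
            have h5 : π ((g * d * g⁻¹) * Y d * (g * d * g⁻¹)⁻¹) = π (Y d) := by
              rw [map_mul _ (g * d * g⁻¹ * Y d), map_mul _ (g * d * g⁻¹), map_inv,
                hπc _ (hDn.conj_mem d hd g) _ (hYD d hd), mul_inv_cancel_right]
            rw [e, map_mul, h5, map_mul, map_mul, map_inv]
          set x := π (Y d) with hx
          have hxx : x * x = 1 := hπ2 _ (hYD d hd)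
          refine ih d' hd'D (fun hmem => hk ?_) ?_
          · rw [← hπA, hYd'] at hmem
            have h1 : π g * x * (π g)⁻¹ = x := by
              rw [← mul_one (π g * x * (π g)⁻¹), ← hxx, ← mul_assoc, hmem, one_mul]
            rwa [mul_inv_eq_iff_eq_mul] at h1
          · rw [pow_succ, pow_mul, pow_two, map_mul] at h
            have hcomm : π g * x * (π g)⁻¹ * x = x * (π g * x * (π g)⁻¹) := by
              rw [hx, ← map_inv, ← map_mul, ← map_mul]
              exact hπc _ (hDn.conj_mem _ (hYD d hd) g) _ (hYD d hd)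
            have h2 : π g * (π g * x * (π g)⁻¹ * x) * (π g)⁻¹ = π g * x * (π g)⁻¹ * x := by
              calc π g * (π g * x * (π g)⁻¹ * x) * (π g)⁻¹
                  = (π g * π g * x) * (π g * π g)⁻¹ * (π g * x * (π g)⁻¹) := by group
                _ = _ := by rw [h, mul_inv_cancel_right, hcomm]
            rw [hYd']
            rwa [mul_inv_eq_iff_eq_mul] at h2
      obtain ⟨d, hd, hdA, hdφ⟩ := key m d₀ hd₀ hd₀A (by rw [H.hφ, map_one, one_mul, mul_one])
      set c := Y d with hc
      have hcD : c ∈ D := hYD d hd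
      set a := φ * c * φ⁻¹ * c⁻¹ with ha
      have haA : a ∈ A := by
        rw [← hπA, ha, map_mul, map_mul, map_mul, map_inv, map_inv, hdφ, mul_inv_cancel_right,
          mul_inv_cancel]
      have hyc : y * c * y⁻¹ = c⁻¹ := by
        simp only [hc, Y, hyi]
        calc y * (y * d * y * d⁻¹) * y = (y * y) * d * y * d⁻¹ * y := by group
          _ = d * y * d⁻¹ * y := by rw [hyy, one_mul]
          _ = d * y⁻¹ * d⁻¹ * y⁻¹ := by rw [hyi]
          _ = _ := by group
      have hc4 : c * c * (c * c) = 1 := by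
        have h1 := hyA _ (by rw [← pow_two]; exact hD2 c hcD : c * c ∈ A)
        rw [show y * (c * c) * y⁻¹ = (y * c * y⁻¹) * (y * c * y⁻¹) by group, hyc, ← mul_inv_rev] at h1
        nth_rewrite 1 [← h1]
        exact inv_mul_cancel _
      have hac : a * c = c * a := (hcen a haA c hcD).symm
      rcases hsign _ (by rw [← pow_two]; exact hD2 c hcD) hc4 with hc2 | hc2
      swap
      · -- `c` anticommutes with `y`
        refine H.swap_contra hy1 hρ c a (fun v => ?_) (by rw [ha, inv_mul_cancel_right]) hac (ha1 a haA)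
        have hinv : ρ c⁻¹ = -ρ c := by
          rw [show c⁻¹ = (c * c)⁻¹ * c by group, map_mul,
            inv_eq_of_mul_eq_one_right hc4, hc2, neg_one_mul]
        show ρ y (ρ c v) = -ρ c (ρ y v)
        rw [← End.mul_apply, ← map_mul, show y * c = (y * c * y⁻¹) * y by group, hyc, map_mul,
          End.mul_apply, hinv, LinearMap.neg_apply]
      -- `c` is an involution
      have hcc : c * c = 1 := hρ (hc2.trans (map_one ρ).symm)
      have hcy : y * c = c * y := by
        rw [inv_eq_of_mul_eq_one_right hcc, mul_inv_eq_iff_eq_mul] at hyc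
        exact hyc
      have hφc : φ * c * φ⁻¹ = a * c := by rw [ha, inv_mul_cancel_right]
      have haa : a * a = 1 := by
        have h1 : φ * c * φ⁻¹ * (φ * c * φ⁻¹) = 1 := by
          rw [show φ * c * φ⁻¹ * (φ * c * φ⁻¹) = φ * (c * c) * φ⁻¹ by group, hcc, mul_one,
            mul_inv_cancel]
        rw [hφc, show a * c * (a * c) = a * (c * a) * c by group, ← hac,
          show a * (a * c) * c = a * a * (c * c) by group, hcc, mul_one] at h1
        exact h1
      rcases hsign a haA haa with ha' | ha'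
      swap
      · -- `φ` anticommutes with `c`
        have hφcv : ∀ v, ρ φ (ρ c v) = -ρ c (ρ φ v) := fun v => by
          rw [← End.mul_apply, ← map_mul, show φ * c = (φ * c * φ⁻¹) * φ by group, hφc, map_mul,
            map_mul, ha', End.mul_apply, End.mul_apply, LinearMap.neg_apply, End.one_apply]
        have hFz : ∀ f, ρ y f = f → f = 0 := by
          intro f hf
          have h1 : ρ φ (ρ c f) = -ρ c f := by rw [hφcv, H.hfix f hf]
          obtain ⟨f', p, hf', hp, hfp⟩ := H.split (ρ c f)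
          have hyf : ρ y (ρ c f) = ρ c f := by
            rw [← End.mul_apply, ← map_mul, hcy, map_mul, End.mul_apply, hf]
          have hfix := H.hfix _ hyf
          rw [h1] at hfix
          exact rho_injective_apply ρ c ((H.eq_zero_of_eq_neg hfix.symm).trans (map_zero _).symm)
        have hyneg : ρ y = -1 := LinearMap.ext fun v => by
          obtain ⟨f, p, hf, hp, rfl⟩ := H.split v
          rw [hFz f hf, zero_add, LinearMap.neg_apply, End.one_apply, PlaneHyp.mem_plane.mp hp]
        refine hd₀A ?_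
        rw [hneg_mem y hyneg d₀, mul_inv_cancel_right, mul_inv_cancel]
        exact one_mem _
      -- `φ` commutes with `c`
      have hφcv : ∀ v, ρ φ (ρ c v) = ρ c (ρ φ v) := fun v => by
        rw [← End.mul_apply, ← map_mul, show φ * c = (φ * c * φ⁻¹) * φ by group, hφc, map_mul,
          map_mul, ha', End.mul_apply, End.mul_apply, End.one_apply]
      have hcyv : ∀ v, ρ y (ρ c v) = ρ c (ρ y v) := fun v => by
        rw [← End.mul_apply, ← map_mul, hcy, map_mul, End.mul_apply]
      have hccv : ∀ v, ρ c (ρ c v) = v := fun v => by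
        rw [← End.mul_apply, ← map_mul, hcc, map_one, End.one_apply]
      obtain ⟨s, hs, hsne⟩ : ∃ s ∈ D, c * s ≠ s * c := by
        by_contra h
        push Not at h
        exact hdA (hCA c (hDS hcD) h)
      have hsc : ρ ⁅c, s⁆ = -1 := (hcρ c hcD s hs).resolve_left fun h =>
        hsne (commutatorElement_eq_one_iff_mul_comm.mp (hρ (h.trans (map_one ρ).symm)))
      have hswap : ∀ v, ρ c (ρ s v) = -ρ s (ρ c v) := fun v => by
        rw [← End.mul_apply, ← map_mul, show c * s = ⁅c, s⁆ * (s * c) by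
          rw [commutatorElement_def]; group, map_mul, hsc, map_mul]
        simp
      let Ep := LinearMap.ker (ρ c - 1)
      let Em := LinearMap.ker (ρ c + 1)
      have hEp : ∀ v, v ∈ Ep ↔ ρ c v = v := fun v => by
        simp [Ep, LinearMap.mem_ker, sub_eq_zero]
      have hEm : ∀ v, v ∈ Em ↔ ρ c v = -v := fun v => by
        simp [Em, LinearMap.mem_ker, add_eq_zero_iff_eq_neg]
      have hEsup : Ep ⊔ Em = ⊤ := by
        refine eq_top_iff.mpr fun v _ => Submodule.mem_sup.mpr
          ⟨(2 : ZMod q)⁻¹ • (v + ρ c v), (hEp _).mpr ?_, (2 : ZMod q)⁻¹ • (v - ρ c v), (hEm _).mpr ?_, ?_⟩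
        · rw [map_smul, map_add, hccv, add_comm]
        · rw [map_smul, map_sub, hccv, ← smul_neg, neg_sub]
        · rw [← smul_add, add_add_sub_cancel, ← two_smul (ZMod q) v, smul_smul,
            inv_mul_cancel₀ H.two_ne, one_smul]
      have hEinf : Ep ⊓ Em = ⊥ := by
        refine (Submodule.eq_bot_iff _).mpr fun v hv => H.eq_zero_of_eq_neg ?_
        conv_lhs => rw [← (hEp v).mp hv.1]
        exact (hEm v).mp hv.2
      have hEeq : finrank (ZMod q) Ep = finrank (ZMod q) Em := by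
        have hi : Function.Injective (ρ s) := rho_injective_apply ρ s
        have h1 : Ep.map (ρ s) ≤ Em := by
          rintro _ ⟨v, hv, rfl⟩
          rw [hEm, hswap, (hEp v).mp hv]
        have h2 : Em.map (ρ s) ≤ Ep := by
          rintro _ ⟨v, hv, rfl⟩
          rw [hEp, hswap, (hEm v).mp hv, map_neg, neg_neg]
        refine le_antisymm ?_ ?_
        · exact (Submodule.equivMapOfInjective _ hi Ep).finrank_eq.trans_le (Submodule.finrank_mono h1)
        · exact (Submodule.equivMapOfInjective _ hi Em).finrank_eq.trans_le (Submodule.finrank_mono h2)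
      have hEdim : finrank (ZMod q) Ep ≤ 2 := by
        have h1 := Submodule.finrank_sup_add_finrank_inf_eq Ep Em
        rw [hEsup, hEinf, finrank_top, finrank_bot, add_zero, ← hEeq] at h1
        omega
      set P := PlaneHyp.plane ρ m φ with hP
      have hPne : P ≠ ⊥ := by
        intro e
        refine hy1 (hρ (LinearMap.ext fun v => ?_))
        obtain ⟨f, p, hf, hp, rfl⟩ := H.split v
        have hp' : p ∈ P := hp
        rw [e, Submodule.mem_bot] at hp'
        rw [hp', add_zero, map_one, End.one_apply, hf]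
      have hPdecomp : ∀ (ε : ZMod q) (E : Submodule (ZMod q) V), (∀ v, v ∈ E ↔ ρ c v = ε • v) →
          (∀ v ∈ P ⊓ E, ρ φ v ∈ P ⊓ E) := fun ε E hE v hv => ⟨H.phi_mem_plane hv.1,
        (hE _).mpr (by rw [← hφcv, (hE v).mp hv.2, map_smul])⟩
      have hPsum : P ≤ (P ⊓ Ep) ⊔ (P ⊓ Em) := by
        intro p hp
        have hcp : ρ c p ∈ P := by
          rw [hP, PlaneHyp.mem_plane, hcyv, PlaneHyp.mem_plane.mp hp, map_neg]
        refine Submodule.mem_sup.mpr ⟨(2 : ZMod q)⁻¹ • (p + ρ c p),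
          ⟨P.smul_mem _ (P.add_mem hp hcp), (hEp _).mpr ?_⟩, (2 : ZMod q)⁻¹ • (p - ρ c p),
          ⟨P.smul_mem _ (P.sub_mem hp hcp), (hEm _).mpr ?_⟩, ?_⟩
        · rw [map_smul, map_add, hccv, add_comm]
        · rw [map_smul, map_sub, hccv, ← smul_neg, neg_sub]
        · rw [← smul_add, add_add_sub_cancel, ← two_smul (ZMod q) p, smul_smul,
            inv_mul_cancel₀ H.two_ne, one_smul]
      obtain ⟨ε, E, hε, hE, hE2, hPE⟩ : ∃ (ε : ZMod q) (E : Submodule (ZMod q) V),
          ε * ε = 1 ∧ (∀ v, v ∈ E ↔ ρ c v = ε • v) ∧ finrank (ZMod q) E ≤ 2 ∧ P ⊓ E = P := by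
        have hp1 := hPdecomp 1 Ep (fun v => by rw [hEp, one_smul])
        have hm1 := hPdecomp (-1) Em (fun v => by rw [hEm, neg_smul, one_smul])
        by_cases h : P ⊓ Em = ⊥
        · refine ⟨1, Ep, one_mul 1, fun v => by rw [hEp, one_smul], hEdim, le_antisymm inf_le_left ?_⟩
          rwa [h, sup_bot_eq] at hPsum
        by_cases h' : P ⊓ Ep = ⊥
        · refine ⟨-1, Em, by ring, fun v => by rw [hEm, neg_smul, one_smul], hEeq ▸ hEdim,
            le_antisymm inf_le_left ?_⟩
          rwa [h', bot_sup_eq] at hPsum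
        exfalso
        have h1 := H.two_le_finrank _ (inf_le_left : P ⊓ Em ≤ P) h hm1
        have h2 := H.two_le_finrank _ (inf_le_left : P ⊓ Ep ≤ P) h' hp1
        have h3 := Submodule.finrank_sup_add_finrank_inf_eq (P ⊓ Ep) (P ⊓ Em)
        have h4 : (P ⊓ Ep) ⊓ (P ⊓ Em) = ⊥ := le_bot_iff.mp
          (hEinf ▸ inf_le_inf inf_le_right inf_le_right)
        rw [h4, finrank_bot, add_zero] at h3
        have h5 : finrank (ZMod q) ((P ⊓ Ep) ⊔ (P ⊓ Em) : Submodule (ZMod q) V) ≤ 2 :=
          (Submodule.finrank_mono (sup_le inf_le_left inf_le_left)).trans H.finrank_plane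
        omega
      have hPeq : P = E := Submodule.eq_of_le_of_finrank_le (inf_eq_left.mp hPE)
        (hE2.trans (H.two_le_finrank P le_rfl hPne fun v hv => H.phi_mem_plane hv))
      -- `c` and `y` differ by a sign
      have hcyε : ρ c = (-ε) • ρ y := LinearMap.ext fun v => by
        obtain ⟨f, p, hf, hp, rfl⟩ := H.split v
        have hcp : ρ c p = ε • p := (hE p).mp (hPeq ▸ hp)
        have hcf : ρ c f = (-ε) • f := by
          set e₁ := (2 : ZMod q)⁻¹ • (f + ε • ρ c f) with he₁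
          have he₁E : e₁ ∈ E := by
            rw [hE, he₁, map_smul, map_add, map_smul, hccv, smul_comm ε (2 : ZMod q)⁻¹, smul_add ε,
              smul_smul ε ε, hε, one_smul, add_comm]
          have he₁y : ρ y e₁ = e₁ := by rw [he₁, map_smul, map_add, map_smul, hcyv, hf]
          have he₁0 : e₁ = 0 := H.eq_zero_of_eq_neg
            (he₁y.symm.trans (PlaneHyp.mem_plane.mp (hPeq.symm ▸ he₁E : e₁ ∈ P)))
          rw [he₁, smul_eq_zero] at he₁0
          have h1 := he₁0.resolve_left (inv_ne_zero H.two_ne)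
          rw [neg_smul, eq_neg_iff_add_eq_zero]
          have h2 := congrArg (ε • ·) h1
          simp only [smul_add, smul_zero, smul_smul, hε, one_smul] at h2
          rwa [add_comm]
        rw [map_add, hcf, hcp, LinearMap.smul_apply, map_add, hf, PlaneHyp.mem_plane.mp hp, smul_add,
          smul_neg, neg_smul ε p, neg_neg]
      refine hd₀A ?_
      have heq : y * d₀ * y⁻¹ = c * d₀ * c⁻¹ := by
        rw [hyi, inv_eq_of_mul_eq_one_right hcc]
        refine hρ ?_
        rw [map_mul, map_mul, map_mul, map_mul, hcyε]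
        simp only [smul_mul_assoc, mul_smul_comm, smul_smul, neg_mul_neg, hε, one_smul]
      rw [show y * d₀ * y⁻¹ * d₀⁻¹ = ⁅c, d₀⁆ by rw [heq]; rfl]
      exact hcA c hcD d₀ hd₀
  -- the stabiliser is inside the Fitting subgroup
  let K₁ : Subgroup G := Subgroup.centralizer (A : Set G)
  let K₂ : Subgroup G := (Subgroup.centralizer ((D.map π : Subgroup _) : Set (G ⧸ A))).comap π
  let K₃ : Subgroup G := ⨅ r : {r : ℕ // r.Prime ∧ r ≠ 2}, Subgroup.centralizer (Cfsg.pCore (r : ℕ) G : Set G)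
  haveI : (D.map π).Normal := Subgroup.Normal.map inferInstance π (QuotientGroup.mk'_surjective A)
  haveI : K₁.Normal := inferInstanceAs (Subgroup.centralizer (A : Set G)).Normal
  haveI : K₂.Normal := Subgroup.Normal.comap inferInstance π
  haveI : K₃.Normal := Subgroup.normal_iInf_normal fun r => inferInstance
  set K := K₁ ⊓ K₂ ⊓ K₃ with hK
  have hyK : y ∈ K := by
    refine ⟨⟨Subgroup.mem_centralizer_iff.mpr fun a ha => (hAy a ha).symm,
      Subgroup.mem_centralizer_iff.mpr ?_⟩, Subgroup.mem_iInf.mpr fun r =>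
      Subgroup.mem_centralizer_iff.mpr fun u hu => (hodd r r.2.1 r.2.2 u hu).symm⟩
    rintro _ ⟨d, hd, rfl⟩
    have h := hyD d hd
    rw [← hπA, map_mul, map_mul, map_mul, map_inv, map_inv, mul_inv_eq_one, mul_inv_eq_iff_eq_mul] at h
    exact h.symm
  have hKF : K ≤ Cfsg.fittingSubgroup G := by
    refine le_fitting_of_actions hs K (fun p hp k hk => ?_) (fun p hp z hz hzc k hk => ?_)
    · by_cases hp2 : p = 2
      · subst hp2
        refine pow_centralizes (Cores.pCore_isPGroup 2 G) hAD hDS hDA hCA (fun a ha => ?_) fun d hd => ?_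
        · rw [← Subgroup.mem_centralizer_iff.mp hk.1.1 a ha, mul_inv_cancel_right]
        · have h := Subgroup.mem_centralizer_iff.mp hk.1.2 (π d) ⟨d, hd, rfl⟩
          rw [← hπA, map_mul, map_mul, map_mul, map_inv, map_inv, ← h, mul_inv_cancel_right,
            mul_inv_cancel]
      · exact ⟨0, fun u hu => by
          rw [pow_zero, pow_one]
          exact (Subgroup.mem_centralizer_iff.mp (Subgroup.mem_iInf.mp hk.2 ⟨p, hp, hp2⟩) u hu).symm⟩
    · by_cases hp2 : p = 2
      · subst hp2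
        exact (Subgroup.mem_centralizer_iff.mp hk.1.1 z
          (hCA z hz fun d hd => hzc d (hDS hd))).symm
      · exact (Subgroup.mem_centralizer_iff.mp (Subgroup.mem_iInf.mp hk.2 ⟨p, hp, hp2⟩) z hz).symm
  exact hgoal (two_elem_mem_oqTwo hyy (hKF hyK))

end Irreducible

/-- The plane theorem. -/
theorem plane_oqTwo (hm : 2 ≤ m) (hqm : q + 1 = 2 ^ m) : ∀ N, PlaneClaim.{u} q m N := by
  intro N
  induction N using Nat.strongRecOn with
  | ind N IH =>
  intro V _ _ _ hN G _ _ hs ρ hρ φ hφ hfix hrk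
  have H : PlaneHyp ρ m φ := ⟨hm, hqm, hφ, hfix, hrk⟩
  rcases subsingleton_or_nontrivial V with h | h
  · rw [show φ ^ 2 ^ (m - 1) = 1 from hρ (LinearMap.ext fun v => Subsingleton.elim _ _)]
    exact one_mem _
  by_cases hirr : ∀ W : Submodule (ZMod q) V, (∀ g, ∀ v ∈ W, ρ g v ∈ W) → W = ⊥ ∨ W = ⊤
  · exact of_irreducible IH hs hN hρ H hirr
  · push Not at hirr
    obtain ⟨W, hW, hb, ht⟩ := hirr
    exact of_invariant IH hs hN ρ hρ H W hb ht hW

end Cfsg.Agent.Lib.Solvable.GrossLength
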