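import Mathlib
import Cfsg.Agent.Lib.Cores
import Cfsg.Agent.Lib.Solvable.Nilpotent

/-!
Critical normal subgroups, groups acting on them as stabilisers, and the series `O_{q,2}`.
-/

set_option autoImplicit false

namespace Cfsg.Agent.Lib.Solvable.GrossLength

open Cfsg.Agent.Lib Subgroup
open scoped commutatorElement

universe u

variable {G : Type u} [Group G] [Finite G]

/-- A critical pair inside a normal `p`-subgroup. -/
theorem exists_critical {p : ℕ} [hp : Fact p.Prime] (S : Subgroup G) [S.Normal] (hS : IsPGroup p S) :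
    ∃ A D : Subgroup G, A.Normal ∧ D.Normal ∧ A ≤ D ∧ D ≤ S ∧ (∀ a ∈ A, ∀ d ∈ D, a * d = d * a) ∧
      (∀ d ∈ D, d ^ p ∈ A) ∧ (∀ d ∈ D, ∀ s ∈ S, ⁅d, s⁆ ∈ A) ∧
      ∀ s ∈ S, (∀ d ∈ D, s * d = d * s) → s ∈ A := by
  classical
  haveI : Nonempty {A : Subgroup G // A.Normal ∧ A ≤ S ∧ ∀ a ∈ A, ∀ b ∈ A, a * b = b * a} :=
    ⟨⟨⊥, inferInstance, bot_le, fun a ha b hb => by
      rw [mem_bot] at ha hb; rw [ha, hb]⟩⟩
  obtain ⟨⟨A, hAn, hAS, hAab⟩, hmax⟩ := Finite.exists_max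
    (fun A : {A : Subgroup G // A.Normal ∧ A ≤ S ∧ ∀ a ∈ A, ∀ b ∈ A, a * b = b * a} => Nat.card A.1)
  set π := QuotientGroup.mk' A with hπ
  have hπc : ∀ a b : G, ⁅a, b⁆ ∈ A ↔ π a * π b = π b * π a := fun a b => by
    rw [← commutatorElement_eq_one_iff_mul_comm, ← map_commutatorElement, hπ,
      QuotientGroup.mk'_apply, QuotientGroup.eq_one_iff]
  let D : Subgroup G :=
    { carrier := {d | d ∈ S ∧ (∀ a ∈ A, a * d = d * a) ∧ d ^ p ∈ A ∧ ∀ s ∈ S, ⁅d, s⁆ ∈ A}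
      one_mem' := ⟨one_mem _, fun a _ => by rw [mul_one, one_mul], by rw [one_pow]; exact one_mem _,
        fun s _ => by rw [commutatorElement_one_left]; exact one_mem _⟩
      mul_mem' := fun {d e} hd he => ⟨mul_mem hd.1 he.1,
        fun a ha => by rw [← mul_assoc, hd.2.1 a ha, mul_assoc, he.2.1 a ha, mul_assoc],
        by
          have hc : Commute (π d) (π e) := (hπc d e).mp (hd.2.2.2 e he.1)
          rw [← QuotientGroup.eq_one_iff, ← QuotientGroup.mk'_apply, map_pow, map_mul, hc.mul_pow,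
            ← map_pow, ← map_pow, QuotientGroup.mk'_apply, QuotientGroup.mk'_apply,
            (QuotientGroup.eq_one_iff _).mpr hd.2.2.1, (QuotientGroup.eq_one_iff _).mpr he.2.2.1,
            one_mul],
        fun s hs => (hπc _ s).mpr (by
          rw [map_mul]
          exact (Commute.mul_left ((hπc d s).mp (hd.2.2.2 s hs)) ((hπc e s).mp (he.2.2.2 s hs))).eq)⟩
      inv_mem' := fun {d} hd => ⟨inv_mem hd.1,
        fun a ha => ((show Commute a d from hd.2.1 a ha).inv_right).eq,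
        by rw [inv_pow]; exact inv_mem hd.2.2.1,
        fun s hs => (hπc _ s).mpr (by
          rw [map_inv]
          exact (Commute.inv_left ((hπc d s).mp (hd.2.2.2 s hs))).eq)⟩ }
  have hDn : D.Normal := ⟨fun d hd g => by
    refine ⟨Subgroup.Normal.conj_mem inferInstance d hd.1 g, fun a ha => ?_, ?_, fun s hs => ?_⟩
    · have h := hd.2.1 (g⁻¹ * a * g) (by simpa using hAn.conj_mem a ha g⁻¹)
      calc a * (g * d * g⁻¹) = g * ((g⁻¹ * a * g) * d) * g⁻¹ := by group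
        _ = g * (d * (g⁻¹ * a * g)) * g⁻¹ := by rw [h]
        _ = _ := by group
    · rw [conj_pow]; exact hAn.conj_mem _ hd.2.2.1 g
    · rw [show ⁅g * d * g⁻¹, s⁆ = g * ⁅d, g⁻¹ * s * g⁆ * g⁻¹ by
        simp only [commutatorElement_def]; group]
      exact hAn.conj_mem _
        (hd.2.2.2 _ (by simpa using Subgroup.Normal.conj_mem inferInstance s hs g⁻¹)) g⟩
  have hAD : A ≤ D := fun a ha => ⟨hAS ha, fun b hb => hAab b hb a ha, pow_mem ha p, fun s _ => by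
    rw [show ⁅a, s⁆ = a * (s * a⁻¹ * s⁻¹) by rw [commutatorElement_def]; group]
    exact mul_mem ha (hAn.conj_mem _ (inv_mem ha) s)⟩
  refine ⟨A, D, hAn, hDn, hAD, fun d hd => hd.1, fun a ha d hd => hd.2.1 a ha, fun d hd => hd.2.2.1,
    fun d hd => hd.2.2.2, ?_⟩
  -- the centre of `D`
  haveI := hDn
  have hZ : ∀ z ∈ D, (∀ d ∈ D, z * d = d * z) → z ∈ A := by
    intro z hzD hz
    let Z : Subgroup G := D ⊓ centralizer (D : Set G)
    have hAZ : A ≤ Z := fun a ha => ⟨hAD ha, mem_centralizer_iff.mpr fun d hd => (hd.2.1 a ha).symm⟩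
    have hle : Nat.card Z ≤ Nat.card A := hmax ⟨Z, inferInstance, fun z hz => hz.1.1,
      fun a ha b hb => (mem_centralizer_iff.mp ha.2 b hb.1).symm⟩
    rw [eq_of_le_of_card_ge hAZ hle]
    exact ⟨hzD, mem_centralizer_iff.mpr fun d hd => (hz d hd).symm⟩
  intro s hs hsD
  by_contra hsA
  set X : Subgroup G := S ⊓ centralizer (D : Set G) with hX
  set Sb := S.map π
  haveI : Group.IsNilpotent Sb := (hS.map π).isNilpotent
  haveI hXn : ((X.map π).subgroupOf Sb).Normal :=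
    (Subgroup.Normal.map inferInstance π (QuotientGroup.mk'_surjective A)).subgroupOf _
  have hne : (X.map π).subgroupOf Sb ≠ ⊥ := by
    intro h
    have h1 : (⟨π s, s, hs, rfl⟩ : Sb) ∈ (X.map π).subgroupOf Sb :=
      ⟨s, ⟨hs, mem_centralizer_iff.mpr fun d hd => (hsD d hd).symm⟩, rfl⟩
    rw [h, mem_bot, Subtype.ext_iff] at h1
    exact hsA ((QuotientGroup.eq_one_iff s).mp h1)
  obtain ⟨z, hz, hz1⟩ := ((nontrivial_iff_exists_ne_one _).mp
    (nontrivial_iff_ne_bot _ |>.mpr (inf_center_ne_bot hne)))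
  obtain ⟨i, hi⟩ := (hS.map π) z
  have hex : ∃ i, z ^ p ^ i = 1 := ⟨i, hi⟩
  obtain ⟨l, hl, hlmin⟩ : ∃ l, z ^ p ^ l = 1 ∧ ∀ j < l, z ^ p ^ j ≠ 1 :=
    ⟨_, Nat.find_spec hex, fun j hj => Nat.find_min hex hj⟩
  obtain ⟨l, rfl⟩ : ∃ l', l = l' + 1 := Nat.exists_eq_succ_of_ne_zero (by
    rintro rfl; exact hz1 (by simpa using hl))
  set w := z ^ p ^ l with hw
  have hw1 : w ≠ 1 := hlmin l (lt_add_one l)
  have hwp : w ^ p = 1 := by rw [hw, ← pow_mul, ← pow_succ, hl]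
  have hwm : w ∈ (X.map π).subgroupOf Sb ⊓ center Sb := pow_mem hz _
  obtain ⟨x, hxX, hxw⟩ := hwm.1
  refine hw1 (Subtype.ext ?_)
  show (w : G ⧸ A) = 1
  rw [← show π x = (w : G ⧸ A) from hxw]
  refine (QuotientGroup.eq_one_iff x).mpr (hZ x ⟨hxX.1, fun a ha => ?_, ?_, fun t ht => ?_⟩
    fun d hd => (mem_centralizer_iff.mp hxX.2 d hd).symm)
  · exact mem_centralizer_iff.mp hxX.2 a (hAD ha)
  · rw [← QuotientGroup.eq_one_iff, ← QuotientGroup.mk'_apply, map_pow,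
      show π x = (w : G ⧸ A) from hxw, ← SubmonoidClass.coe_pow, hwp, OneMemClass.coe_one]
  · rw [hπc, show π x = (w : G ⧸ A) from hxw]
    exact (congrArg Subtype.val (mem_center_iff.mp hwm.2 ⟨π t, t, ht, rfl⟩)).symm

/-- An element fixing the values of its displacements has the expected powers. -/
theorem conj_pow_of_fixed {k u a : G} (h : k * u * k⁻¹ = a * u) (hka : k * a * k⁻¹ = a) (i : ℕ) :
    k ^ i * u * (k ^ i)⁻¹ = a ^ i * u := by
  induction i with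
  | zero => simp
  | succ i ih =>
    rw [pow_succ' k, show k * k ^ i * u * (k * k ^ i)⁻¹ = k * (k ^ i * u * (k ^ i)⁻¹) * k⁻¹ by group, ih,
      show k * (a ^ i * u) * k⁻¹ = (k * a * k⁻¹) ^ i * (k * u * k⁻¹) by rw [conj_pow]; group, hka, h,
      pow_succ, mul_assoc]

/-- An element stabilising a critical pair acts as a `p`-element. -/
theorem pow_centralizes {p : ℕ} [hp : Fact p.Prime] {S A D : Subgroup G} [hSn : S.Normal]
    (hS : IsPGroup p S) (hAD : A ≤ D) (hDS : D ≤ S) (hDA : ∀ d ∈ D, ∀ s ∈ S, ⁅d, s⁆ ∈ A)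
    (hCA : ∀ s ∈ S, (∀ d ∈ D, s * d = d * s) → s ∈ A) {k : G} (hkA : ∀ a ∈ A, k * a * k⁻¹ = a)
    (hkD : ∀ d ∈ D, k * d * k⁻¹ * d⁻¹ ∈ A) :
    ∃ e : ℕ, ∀ u ∈ S, k ^ p ^ e * u = u * k ^ p ^ e := by
  obtain ⟨e, he⟩ := (hS.to_le (hAD.trans hDS)).exists_card_eq
  have hpow : ∀ a ∈ A, a ^ p ^ e = 1 := fun a ha => by
    rw [← he]
    exact congrArg Subtype.val (pow_card_eq_one' (x := (⟨a, ha⟩ : A)))
  have h1 : ∀ d ∈ D, k ^ p ^ e * d * (k ^ p ^ e)⁻¹ = d := by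
    intro d hd
    rw [conj_pow_of_fixed (a := k * d * k⁻¹ * d⁻¹) (u := d) (k := k) (by group)
      (hkA _ (hkD d hd)), hpow _ (hkD d hd), one_mul]
  set k₁ := k ^ p ^ e with hk₁
  have hk₁A : ∀ a ∈ A, k₁ * a * k₁⁻¹ = a := fun a ha => h1 a (hAD ha)
  refine ⟨e + e, fun u hu => ?_⟩
  have hmem : k₁ * u * k₁⁻¹ * u⁻¹ ∈ A := by
    have huS : k₁ * u * k₁⁻¹ * u⁻¹ ∈ S := mul_mem (hSn.conj_mem u hu k₁) (inv_mem hu)
    refine hCA _ huS fun d hd => ?_
    have hc : ⁅d, u⁻¹⁆ ∈ A := hDA d hd _ (inv_mem hu)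
    have hk₁d : k₁⁻¹ * d * k₁ = d := by
      conv_lhs => rw [← h1 d hd]
      group
    have h2 : u⁻¹ * d * u = ⁅d, u⁻¹⁆⁻¹ * d := by rw [commutatorElement_def]; group
    calc k₁ * u * k₁⁻¹ * u⁻¹ * d
        = k₁ * u * k₁⁻¹ * (u⁻¹ * d * u) * u⁻¹ := by group
      _ = k₁ * u * (k₁⁻¹ * ⁅d, u⁻¹⁆⁻¹ * k₁) * (k₁⁻¹ * d * k₁) * k₁⁻¹ * u⁻¹ := by rw [h2]; group
      _ = k₁ * u * (u⁻¹ * d * u) * k₁⁻¹ * u⁻¹ := by
          rw [hk₁d, h2]
          conv_lhs => rw [show k₁⁻¹ * ⁅d, u⁻¹⁆⁻¹ * k₁ = ⁅d, u⁻¹⁆⁻¹ by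
            conv_lhs => rw [← hk₁A _ (inv_mem hc)]
            group]
          group
      _ = (k₁ * d * k₁⁻¹) * (k₁ * u * k₁⁻¹ * u⁻¹) := by group
      _ = d * (k₁ * u * k₁⁻¹ * u⁻¹) := by rw [h1 d hd]
  have := conj_pow_of_fixed (a := k₁ * u * k₁⁻¹ * u⁻¹) (u := u) (k := k₁) (by group)
    (hk₁A _ hmem) (p ^ e)
  rw [hpow _ hmem, one_mul, mul_inv_eq_iff_eq_mul, hk₁, ← pow_mul, ← pow_add] at this
  exact this

/-- A normal subgroup acting on every `O_p(G)` as a `p`-group, centrally on its centre, is in the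
Fitting subgroup. -/
theorem le_fitting_of_actions (hs : Group.IsSolvable G) (K : Subgroup G) [K.Normal]
    (hact : ∀ p : ℕ, p.Prime → ∀ k ∈ K, ∃ e : ℕ, ∀ u ∈ Cfsg.pCore p G, k ^ p ^ e * u = u * k ^ p ^ e)
    (hcen : ∀ p : ℕ, p.Prime → ∀ z ∈ Cfsg.pCore p G, (∀ u ∈ Cfsg.pCore p G, z * u = u * z) →
      ∀ k ∈ K, k * z = z * k) :
    K ≤ Cfsg.fittingSubgroup G := by
  classical
  haveI : (Cfsg.fittingSubgroup G).Normal := Cores.fittingSubgroup_normal G
  set N := centralizer (Cfsg.fittingSubgroup G : Set G) with hN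
  have hNF : N ≤ Cfsg.fittingSubgroup G := Cores.centralizer_fittingSubgroup_le hs
  haveI : Group.IsNilpotent N := Cores.isNilpotent_of_le hNF
  have hNK : N ≤ centralizer (K : Set G) := by
    rw [← subgroupOf_eq_top, ← index_eq_one]
    by_contra hne
    obtain ⟨p, hp, hpd⟩ := Nat.exists_prime_and_dvd hne
    haveI : Fact p.Prime := ⟨hp⟩
    obtain ⟨P⟩ := (Sylow.nonempty : Nonempty (Sylow p N))
    have hP : (P : Subgroup N).Normal :=
      (Group.isNilpotent_of_finite_tfae.out 0 3 rfl rfl).mp inferInstance p inferInstance P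
    haveI : (P : Subgroup N).Characteristic := Sylow.characteristic_of_normal P hP
    have hle : (P : Subgroup N).map N.subtype ≤ centralizer (K : Set G) := by
      intro z hz
      refine mem_centralizer_iff.mpr fun k hk => hcen p hp z
        (Cores.le_pCore inferInstance (P.isPGroup'.map _) hz) (fun u hu => ?_) k hk
      obtain ⟨n, -, rfl⟩ := hz
      exact (mem_centralizer_iff.mp n.2 u (Cores.pCore_le_fittingSubgroup p hu)).symm
    exact P.not_dvd_index (hpd.trans (index_dvd_of_le (map_le_iff_le_comap.mp hle)))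
  refine Cores.le_fittingSubgroup inferInstance ?_
  let ι := {p : Fin (Nat.card G + 1) // (p : ℕ).Prime}
  let f : ∀ i : ι, K →* MulAut (Cfsg.pCore ((i.1 : ℕ)) G) := fun i => MulAut.conjNormal.comp K.subtype
  let g : K →* ∀ i : ι, (f i).range := MonoidHom.mk' (fun k i => ⟨f i k, k, rfl⟩)
    (fun a b => funext fun i => Subtype.ext (map_mul (f i) a b))
  haveI : ∀ i : ι, Group.IsNilpotent (f i).range := fun i => by
    haveI := Fact.mk i.2
    refine IsPGroup.isNilpotent (p := (i.1 : ℕ)) ?_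
    rintro ⟨_, k, rfl⟩
    obtain ⟨e, he⟩ := hact (i.1 : ℕ) i.2 k k.2
    refine ⟨e, Subtype.ext ?_⟩
    show (f i k) ^ (i.1 : ℕ) ^ e = 1
    rw [← map_pow]
    refine MulEquiv.ext fun u => Subtype.ext ?_
    show ((k ^ (i.1 : ℕ) ^ e : K) : G) * (u : G) * ((k ^ (i.1 : ℕ) ^ e : K) : G)⁻¹ = u
    rw [mul_inv_eq_iff_eq_mul, SubmonoidClass.coe_pow]
    exact he u u.2
  refine Subgroup.isNilpotent_of_ker_le_center g (fun k hk => mem_center_iff.mpr fun l =>
    Subtype.ext ?_)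
  have hkN : (k : G) ∈ N := by
    have hle : Cfsg.fittingSubgroup G ≤ centralizer ({(k : G)} : Set G) := by
      refine Cores.fittingSubgroup_le_of_pCore_le fun p hp u hu => ?_
      haveI := Fact.mk hp
      rw [mem_centralizer_singleton_iff]
      by_cases hbot : Cfsg.pCore p G = ⊥
      · rw [hbot, mem_bot] at hu; rw [hu, one_mul, mul_one]
      haveI := (nontrivial_iff_ne_bot _).mpr hbot
      have hpG : p ≤ Nat.card G := Nat.le_of_dvd Nat.card_pos
        (((Cores.pCore_isPGroup p G).card_eq_or_dvd.resolve_left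
          fun h => hbot (card_eq_one.mp h)).trans (card_subgroup_dvd_card _))
      have h1 := congrArg (fun a => (((a ⟨⟨p, Nat.lt_succ_of_le hpG⟩, hp⟩ : (f _).range) :
        MulAut (Cfsg.pCore p G)) ⟨u, hu⟩ : G)) (show g k = 1 from hk)
      change (k : G) * u * (k : G)⁻¹ = u at h1
      rw [mul_inv_eq_iff_eq_mul] at h1
      exact h1.symm
    exact mem_centralizer_iff.mpr fun u hu => mem_centralizer_singleton_iff.mp (hle hu)
  exact mem_centralizer_iff.mp (hNK hkN) l l.2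

/-- `O_{q,2}(G)`. -/
def oqTwo (q : ℕ) (G : Type u) [Group G] : Subgroup G :=
  (Cfsg.pCore 2 (G ⧸ Cfsg.pCore q G)).comap (QuotientGroup.mk' (Cfsg.pCore q G))

instance oqTwo_normal (q : ℕ) (G : Type u) [Group G] : (oqTwo q G).Normal :=
  Subgroup.Normal.comap inferInstance _

omit [Finite G] in
theorem exists_pow_mem_of_mem_oqTwo {q : ℕ} {y : G} (h : y ∈ oqTwo q G) :
    ∃ i : ℕ, y ^ 2 ^ i ∈ Cfsg.pCore q G := by
  obtain ⟨i, hi⟩ := Cores.pCore_isPGroup 2 _ ⟨_, h⟩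
  refine ⟨i, (QuotientGroup.eq_one_iff _).mp ?_⟩
  simpa using congrArg Subtype.val hi

omit [Finite G] in
/-- A normal subgroup that is `q`-by-`2` lies in `O_{q,2}(G)`. -/
theorem le_oqTwo {q : ℕ} (I N : Subgroup G) [I.Normal] [N.Normal] (hN : IsPGroup q N)
    (h : ∀ g ∈ I, ∃ i : ℕ, g ^ 2 ^ i ∈ N) : I ≤ oqTwo q G := by
  rw [oqTwo, ← map_le_iff_le_comap]
  refine Cores.le_pCore (Subgroup.Normal.map inferInstance _ (QuotientGroup.mk'_surjective _)) ?_
  rintro ⟨_, g, hg, rfl⟩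
  obtain ⟨i, hi⟩ := h g hg
  refine ⟨i, Subtype.ext ?_⟩
  rw [SubmonoidClass.coe_pow, ← map_pow, OneMemClass.coe_one, QuotientGroup.mk'_apply,
    QuotientGroup.eq_one_iff]
  exact Cores.le_pCore inferInstance hN hi

/-- `O_{q,2}` of a normal subgroup. -/
theorem oqTwo_map_le {q : ℕ} [Fact q.Prime] (G₀ : Subgroup G) [G₀.Normal] :
    (oqTwo q G₀).map G₀.subtype ≤ oqTwo q G := by
  set π := QuotientGroup.mk' (Cfsg.pCore q G) with hπ
  refine le_trans (le_of_eq rfl) (show (oqTwo q G₀).map G₀.subtype ≤ (Cfsg.pCore 2 _).comap π from ?_)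
  rw [← map_le_iff_le_comap, map_map]
  set K := G₀.map π
  haveI : K.Normal := Subgroup.Normal.map inferInstance π (QuotientGroup.mk'_surjective _)
  let h : G₀ →* K := (π.comp G₀.subtype).codRestrict K fun g => ⟨g, g.2, rfl⟩
  have hh : Function.Surjective h := by
    rintro ⟨_, g, hg, rfl⟩
    exact ⟨⟨g, hg⟩, rfl⟩
  have hle : (oqTwo q G₀).map h ≤ Cfsg.pCore 2 K := by
    refine Cores.le_pCore (Subgroup.Normal.map inferInstance h hh) ?_
    rintro ⟨_, g, hg, rfl⟩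
    obtain ⟨i, hi⟩ := exists_pow_mem_of_mem_oqTwo hg
    refine ⟨i, Subtype.ext ?_⟩
    rw [SubmonoidClass.coe_pow, ← map_pow, OneMemClass.coe_one]
    refine Subtype.ext ?_
    exact (QuotientGroup.eq_one_iff _).mpr (Cores.map_subtype_pCore_le G₀ ⟨_, hi, rfl⟩)
  refine le_trans ?_ (Cores.map_subtype_pCore_le K)
  rintro _ ⟨g, hg, rfl⟩
  exact ⟨h g, hle ⟨g, hg, rfl⟩, rfl⟩

end Cfsg.Agent.Lib.Solvable.GrossLength
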